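import Groth.Agent.EtPBC.K345.FieldLim
import Groth.Agent.S3478
import Groth.Agent.EtpbcB.TorsionBasic
import Groth.Agent.Etcore.HpullEq

/-!
# Classes with finite constant coefficients on a geometric fibre come from a finite extension

`exists_descend`.
-/

set_option autoImplicit false
universe u
open CategoryTheory CategoryTheory.Limits AlgebraicGeometry Opposite Abelian
open scoped Groth.Agent.Etcore.EtInst
open Groth.Agent.Etcore.EtInst Groth.Agent.Etcore.HpullCalc Groth.Agent.Etcore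

namespace K345.ClassDesc

open Groth.Agent.Sga4h.NcTransfer K345.FieldLim K345.LimAbs

attribute [local instance] pfl

theorem HHmap_iso_eq_zero {X : Scheme.{u}} {G G' : EtCoh.Ab X} (e : G ≅ G') (p : ℕ) (x : HH X G p)
    (h : HHmap e.hom p x = 0) : x = 0 := by
  have h1 : HHmap e.inv p (HHmap e.hom p x) = x := by
    rw [← HHmap_comp, e.hom_inv_id, HHmap_id]
  rw [← h1, h, map_zero]

theorem hp_iso_eq_zero {W X : Scheme.{u}} (m : W ⟶ X) {G G' : EtCoh.Ab X} (e : G ≅ G') (p : ℕ)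
    (x : HH X G p) (h : hp m G' p (HHmap e.hom p x) = 0) : hp m G p x = 0 := by
  rw [hp_map] at h
  exact HHmap_iso_eq_zero ((EtCoh.pull m).mapIso e) p _ h

/-- a constant sheaf killed by an integer that is nonzero in `K` is torsion prime to the characteristic -/
theorem isLTorsion_const {T : Scheme.{u}} (M : Type) [AddCommGroup M] (n : ℕ) (K : Type u) [Field K]
    (hn : (n : K) ≠ 0) (hM : ∀ m : M, n • m = 0) :
    EtAcyc.IsLTorsion {ℓ | ℓ.Prime ∧ ℓ ≠ ringChar K} (EtCoh.const T M) := fun U _ x => by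
  refine ⟨U, 𝟙 U, n, ⟨x, rfl⟩, ⟨Nat.pos_of_ne_zero fun h0 => hn (by rw [h0, Nat.cast_zero]), ?_⟩,
    Groth.Agent.EtpbcB.TorsionBasic.killedBy_const M n hM U _⟩
  intro p hp hpn
  refine ⟨hp, fun h => hn ?_⟩
  exact (ringChar.spec K n).2 (h ▸ hpn)

theorem comp_aux {W X Y Z V : Scheme.{u}} (t : X ⟶ Y) (g : Y ⟶ Z) (f₁ : Z ⟶ V) (f₂ : Y ⟶ V)
    (f₃ : X ⟶ V) (w₁ : g ≫ f₁ = f₂) (w₂ : t ≫ f₂ = f₃) (F : EtCoh.Ab V) (p : ℕ)
    (y : HH Y ((EtCoh.pull f₂).obj F) p) (y' : HH Z ((EtCoh.pull f₁).obj F) p)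
    (hy : hpVia g f₁ f₂ w₁ F p y' = y) (ζ : HH X ((EtCoh.pull f₃).obj F) p)
    (hζ : hpVia t f₂ f₃ w₂ F p y = ζ) (m : W ⟶ X) (h0 : hp (m ≫ t ≫ g) _ p y' = 0) :
    hp m _ p ζ = 0 := by
  have w₃ : (t ≫ g) ≫ f₁ = f₃ := by rw [Category.assoc, w₁, w₂]
  have e1 := hpVia_hpVia t g f₁ (t ≫ g) f₂ f₃ rfl w₁ w₂ w₃ F p y'
  rw [hy, hζ] at e1
  have w₄ : (m ≫ t ≫ g) ≫ f₁ = m ≫ f₃ := by rw [Category.assoc, w₃]
  have e2 := hpVia_hpVia m (t ≫ g) f₁ (m ≫ t ≫ g) f₃ (m ≫ f₃) rfl w₃ rfl w₄ F p y'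
  rw [← e1, (hpVia_eq_zero_iff (m ≫ t ≫ g) f₁ (m ≫ f₃) w₄ F p y').2 h0] at e2
  exact (hpVia_eq_zero_iff m f₃ (m ≫ f₃) rfl F p ζ).1 e2

/-- a class with constant coefficients prime to the characteristic on a geometric fibre comes from the fibre over an
algebraic closure of the base field -/
theorem exists_hpVia_alg {k ka Ka : Type u} [Field k] [Field ka] [IsAlgClosed ka] [Algebra k ka]
    [Field Ka] [IsAlgClosed Ka] (ι₀ : ka →+* Ka)
    {X : Scheme.{u}} (sX : X ⟶ Spec (CommRingCat.of k)) (n : ℕ) (hn : (n : k) ≠ 0) (M : Type)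
    [AddCommGroup M] (hM : ∀ y : M, n • y = 0) {XKa : Scheme.{u}} (P : XKa ⟶ X)
    (a : XKa ⟶ Spec (CommRingCat.of Ka)) (t : XKa ⟶ pullback sX (spLa k ka))
    (w : t ≫ pullback.fst sX (spLa k ka) = P)
    (ht : IsPullback t a (pullback.snd sX (spLa k ka)) (Spec.map (CommRingCat.ofHom ι₀)))
    (ζ : HH XKa ((EtCoh.pull P).obj (EtCoh.const X M)) 1) :
    ∃ y : HH (pullback sX (spLa k ka))
        ((EtCoh.pull (pullback.fst sX (spLa k ka))).obj (EtCoh.const X M)) 1,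
      hpVia t (pullback.fst sX (spLa k ka)) P w (EtCoh.const X M) 1 y = ζ := by
  have hk : (n : ka) ≠ 0 := by
    rw [← map_natCast (algebraMap k ka)]
    exact fun h => hn ((map_eq_zero _).1 h)
  have hL := Groth.Agent.Etbc.H190.LocAcyc.isLTorsion_pull (pullback.fst sX (spLa k ka)) _
    (isLTorsion_const (T := X) M n ka hk hM)
  have h1 := (Groth.Agent.S3478.bijective ka Ka ι₀ (pullback.snd sX (spLa k ka)) _ hL ht 1).2
  exact (surjective_hpVia_iff t (pullback.fst sX (spLa k ka)) P w (EtCoh.const X M) 1).2 h1 ζ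

theorem exists_descend {k ka Ka : Type u} [Field k] [Field ka] [IsAlgClosed ka] [Algebra k ka]
    [Algebra.IsAlgebraic k ka] [Field Ka] [IsAlgClosed Ka] (ι₀ : ka →+* Ka)
    {X : Scheme.{u}} (sX : X ⟶ Spec (CommRingCat.of k)) [QuasiCompact sX] [QuasiSeparated sX]
    (n : ℕ) (hn : (n : k) ≠ 0) (M : Type) [AddCommGroup M] (hM : ∀ y : M, n • y = 0)
    {XKa : Scheme.{u}} (P : XKa ⟶ X) (a : XKa ⟶ Spec (CommRingCat.of Ka))
    (t : XKa ⟶ pullback sX (spLa k ka)) (w : t ≫ pullback.fst sX (spLa k ka) = P)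
    (ht : IsPullback t a (pullback.snd sX (spLa k ka)) (Spec.map (CommRingCat.ofHom ι₀)))
    {G : EtCoh.Ab XKa} (e : G ≅ EtCoh.const XKa M) (ζ : HH XKa G 1) :
    ∃ (E : IntermediateField k ka) (_ : FiniteDimensional k E)
      (g : XKa ⟶ pullback sX (spE k ka E)) (_ : g ≫ pullback.fst sX (spE k ka E) = P)
      (_ : g ≫ pullback.snd sX (spE k ka E) = a ≫
        Spec.map (CommRingCat.ofHom (ι₀.comp (algebraMap E ka))))
      (y' : HH (pullback sX (spE k ka E))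
        ((EtCoh.pull (pullback.fst sX (spE k ka E))).obj (EtCoh.const X M)) 1),
      ∀ {W : Scheme.{u}} (m : W ⟶ XKa), hp (m ≫ g) _ 1 y' = 0 → hp m G 1 ζ = 0 := by
  let e' : G ≅ (EtCoh.pull P).obj (EtCoh.const X M) := e ≪≫ (EtCore.pullConst P M).symm
  obtain ⟨y, hy⟩ := exists_hpVia_alg ι₀ sX n hn M hM P a t w ht (HHmap e'.hom 1 ζ)
  obtain ⟨E, hE, g₀, w₀, w₁, y', hy'⟩ := exists_finite_hpVia_eq k ka sX (EtCoh.const X M) 1 y
  refine ⟨E, hE, t ≫ g₀, by rw [Category.assoc, w₀, w], ?_, y', fun m h0 => ?_⟩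
  · rw [Category.assoc, w₁, ← Category.assoc, ht.w, Category.assoc, ← Spec.map_comp,
      ← CommRingCat.ofHom_comp]
  · exact hp_iso_eq_zero m e' 1 ζ (comp_aux t g₀ _ _ P w₀ w (EtCoh.const X M) 1 y y' hy' _ hy m h0)

end K345.ClassDesc
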