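import Groth.Agent.EtPBC.K345.LimAbs
import Groth.Agent.Etcore.FGLim

/-!
# Étale cohomology and algebraic field extensions

For `La/L` algebraic, `Y` qcqs over `L`: a class on `Y` dying on `Y_{La}` dies on `Y_E` for a finite subextension `E`;
a class on `Y_{La}` with coefficients in a sheaf pulled back from `Y` comes from `Y_E`.
-/

set_option autoImplicit false
universe u
open CategoryTheory CategoryTheory.Limits AlgebraicGeometry Opposite Abelian
open scoped Groth.Agent.Etcore.EtInst
open Groth.Agent.Etcore.EtInst Groth.Agent.Etcore.HpullCalc Groth.Agent.Etcore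

namespace K345.FieldLim

open Groth.Agent.Sga4h.NcTransfer K345.LimAbs

attribute [local instance] pfl

variable (L La : Type u) [Field L] [Field La] [Algebra L La]

/-- `Spec` of a subalgebra over `Spec L` -/
noncomputable def spA (B : Subalgebra L La) : Spec (CommRingCat.of B) ⟶ Spec (CommRingCat.of L) :=
  Spec.map (CommRingCat.ofHom (algebraMap L B))

noncomputable def spE (E : IntermediateField L La) :
    Spec (CommRingCat.of E) ⟶ Spec (CommRingCat.of L) :=
  Spec.map (CommRingCat.ofHom (algebraMap L E))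

noncomputable def spLa : Spec (CommRingCat.of La) ⟶ Spec (CommRingCat.of L) :=
  Spec.map (CommRingCat.ofHom (algebraMap L La))

/-- a finitely generated subalgebra lies in a finite subextension -/
theorem exists_le_intermediate [Algebra.IsAlgebraic L La] (B : Subalgebra L La) (hB : B.FG) :
    ∃ E : IntermediateField L La, FiniteDimensional L E ∧ B ≤ E.toSubalgebra := by
  obtain ⟨S, hS⟩ := hB
  have : Finite (S : Set La) := S.finite_toSet
  refine ⟨IntermediateField.adjoin L (S : Set La), ?_, ?_⟩
  · exact IntermediateField.finiteDimensional_adjoin fun x _ => Algebra.IsIntegral.isIntegral x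
  · rw [← hS]
    exact Algebra.adjoin_le (IntermediateField.subset_adjoin L (S : Set La))

noncomputable def T : (FGLim.FGSub L La)ᵒᵖ ⥤ Scheme.{u} := PullbackLim.specSys (FGLim.fgSys L La)

noncomputable def cn : Cone (T L La) := PullbackLim.specCone _ (FGLim.fgCocone L La)

noncomputable def isLimitCn : IsLimit (cn L La) :=
  PullbackLim.isLimitSpecCone _ _ (FGLim.isColimitFG L La)

noncomputable def τ (a : (FGLim.FGSub L La)ᵒᵖ) : (T L La).obj a ⟶ Spec (CommRingCat.of L) :=
  spA L La a.unop.1

noncomputable def tt : (cn L La).pt ⟶ Spec (CommRingCat.of L) := spLa L La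

theorem hτ ⦃a b : (FGLim.FGSub L La)ᵒᵖ⦄ (h : a ⟶ b) : (T L La).map h ≫ τ L La b = τ L La a :=
  (Spec.map_comp (CommRingCat.ofHom (algebraMap L b.unop.1))
    (CommRingCat.ofHom (Subalgebra.inclusion h.unop.le).toRingHom)).symm

theorem hc (a : (FGLim.FGSub L La)ᵒᵖ) : (cn L La).π.app a ≫ τ L La a = tt L La :=
  (Spec.map_comp (CommRingCat.ofHom (algebraMap L a.unop.1))
    (CommRingCat.ofHom a.unop.1.val.toRingHom)).symm

noncomputable def cπ (a : (FGLim.FGSub L La)ᵒᵖ) : Spec (CommRingCat.of La) ⟶ (T L La).obj a :=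
  Spec.map (CommRingCat.ofHom a.unop.1.val.toRingHom)

theorem hcπ ⦃a b : (FGLim.FGSub L La)ᵒᵖ⦄ (h : a ⟶ b) : cπ L La a ≫ (T L La).map h = cπ L La b :=
  (Spec.map_comp (CommRingCat.ofHom (Subalgebra.inclusion h.unop.le).toRingHom)
    (CommRingCat.ofHom a.unop.1.val.toRingHom)).symm

noncomputable def isLimitC : IsLimit (mkC (T L La) (cπ L La) (hcπ L La)) :=
  IsLimit.ofIsoLimit (isLimitCn L La) (Cone.ext (Iso.refl _) (fun _ => (Category.id_comp _).symm))

theorem hcτ (a : (FGLim.FGSub L La)ᵒᵖ) : cπ L La a ≫ τ L La a = spLa L La :=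
  (Spec.map_comp (CommRingCat.ofHom (algebraMap L a.unop.1))
    (CommRingCat.ofHom a.unop.1.val.toRingHom)).symm

theorem haff ⦃a b : (FGLim.FGSub L La)ᵒᵖ⦄ (h : a ⟶ b) : IsAffineHom ((T L La).map h) :=
  PullbackLim.isAffineHom_specSys _ h

theorem isAffine_T (a : (FGLim.FGSub L La)ᵒᵖ) : IsAffine ((T L La).obj a) :=
  PullbackLim.isAffine_specSys _ a

variable [Algebra.IsAlgebraic L La]

/-- every stage is dominated by a finite subextension -/
theorem exists_stage (a : (FGLim.FGSub L La)ᵒᵖ) :
    ∃ (E : IntermediateField L La) (_ : FiniteDimensional L E)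
      (g : Spec (CommRingCat.of E) ⟶ (T L La).obj a), g ≫ τ L La a = spE L La E ∧
      Spec.map (CommRingCat.ofHom (algebraMap E La)) ≫ g = cπ L La a := by
  obtain ⟨E, hE, hle⟩ := exists_le_intermediate L La a.unop.1 a.unop.2
  exact ⟨E, hE, Spec.map (CommRingCat.ofHom (Subalgebra.inclusion hle).toRingHom),
    (Spec.map_comp (CommRingCat.ofHom (algebraMap L a.unop.1))
      (CommRingCat.ofHom (Subalgebra.inclusion hle).toRingHom)).symm,
    (Spec.map_comp (CommRingCat.ofHom (Subalgebra.inclusion hle).toRingHom)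
      (CommRingCat.ofHom (algebraMap E La))).symm⟩

variable {Y : Scheme.{u}} (f : Y ⟶ Spec (CommRingCat.of L)) [QuasiCompact f] [QuasiSeparated f]

theorem exists_finite_hp_eq_zero (F : EtCoh.Ab Y) (p : ℕ) (x : HH Y F p)
    (hx : hp (pullback.fst f (spLa L La)) F p x = 0) :
    ∃ E : IntermediateField L La, FiniteDimensional L E ∧
      hp (pullback.fst f (spE L La E)) F p x = 0 := by
  have hA := isAffine_T L La
  obtain ⟨j, hj⟩ := LimAbs.exists_eq_zero (T L La) (τ L La) (hτ L La) (cn L La) (isLimitCn L La)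
    (tt L La) (hc L La) (haff L La) (fun a => inferInstance) (fun a => inferInstance) f F p x hx
  obtain ⟨E, hE, g, hg, -⟩ := exists_stage L La j
  refine ⟨E, hE, ?_⟩
  refine hp_eq_zero_of_factor (pullback.fst f (τ L La j)) _
    (pullback.lift (pullback.fst f (spE L La E)) (pullback.snd f (spE L La E) ≫ g) ?_)
    (pullback.lift_fst _ _ _) F p x hj
  rw [Category.assoc, hg, pullback.condition]

theorem exists_finite_hpVia_eq (F : EtCoh.Ab Y) (p : ℕ)
    (y : HH (pullback f (spLa L La)) ((EtCoh.pull (pullback.fst f (spLa L La))).obj F) p) :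
    ∃ (E : IntermediateField L La) (_ : FiniteDimensional L E)
      (g : pullback f (spLa L La) ⟶ pullback f (spE L La E))
      (w : g ≫ pullback.fst f (spE L La E) = pullback.fst f (spLa L La))
      (_ : g ≫ pullback.snd f (spE L La E) = pullback.snd f (spLa L La) ≫
        Spec.map (CommRingCat.ofHom (algebraMap E La)))
      (y' : HH (pullback f (spE L La E)) ((EtCoh.pull (pullback.fst f (spE L La E))).obj F) p),
      hpVia g (pullback.fst f (spE L La E)) _ w F p y' = y := by
  have hA := isAffine_T L La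
  obtain ⟨j, π, hπ1, hπ2, y', hy'⟩ := LimAbs.exists_hpVia_eq (T L La) (τ L La) (hτ L La)
    (haff L La) (fun a => inferInstance) (fun a => inferInstance) f (cπ L La) (hcπ L La)
    (isLimitC L La) (spLa L La) (hcτ L La) F p y
  obtain ⟨E, hE, g, hg, hg'⟩ := exists_stage L La j
  have hE' : Spec.map (CommRingCat.ofHom (algebraMap E La)) ≫ spE L La E = spLa L La :=
    (Spec.map_comp (CommRingCat.ofHom (algebraMap L E)) (CommRingCat.ofHom (algebraMap E La))).symm
  obtain ⟨v, hv, hv2⟩ : ∃ v : pullback f (spLa L La) ⟶ pullback f (spE L La E),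
      v ≫ pullback.fst f (spE L La E) = pullback.fst f (spLa L La) ∧
      v ≫ pullback.snd f (spE L La E) = pullback.snd f (spLa L La) ≫
        Spec.map (CommRingCat.ofHom (algebraMap E La)) :=
    ⟨pullback.lift (pullback.fst f (spLa L La)) (pullback.snd f (spLa L La) ≫
      Spec.map (CommRingCat.ofHom (algebraMap E La)))
      (by rw [Category.assoc, hE', pullback.condition]), pullback.lift_fst _ _ _,
      pullback.lift_snd _ _ _⟩
  obtain ⟨v', hv', hv'2⟩ : ∃ v' : pullback f (spE L La E) ⟶ pullback f (τ L La j),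
      v' ≫ pullback.fst f (τ L La j) = pullback.fst f (spE L La E) ∧
      v' ≫ pullback.snd f (τ L La j) = pullback.snd f (spE L La E) ≫ g :=
    ⟨pullback.lift (pullback.fst f (spE L La E)) (pullback.snd f (spE L La E) ≫ g)
      (by rw [Category.assoc, hg, pullback.condition]), pullback.lift_fst _ _ _,
      pullback.lift_snd _ _ _⟩
  have hvv' : v ≫ v' = π := by
    apply pullback.hom_ext
    · rw [Category.assoc, hv', hv]
      exact hπ1.symm
    · rw [Category.assoc, hv'2, ← Category.assoc, hv2, Category.assoc, hg']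
      exact hπ2.symm
  have q1 := hpVia_hpVia v v' (pullback.fst f (τ L La j)) π (pullback.fst f (spE L La E))
    (pullback.fst f (spLa L La)) hvv' hv' hv hπ1 F p y'
  exact ⟨E, hE, v, hv, hv2, hpVia v' (pullback.fst f (τ L La j)) (pullback.fst f (spE L La E)) hv' F p y',
    q1.trans hy'⟩

end K345.FieldLim
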