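import Mathlib.AlgebraicGeometry.Morphisms.FiniteType
import Mathlib.RingTheory.Jacobson.Ring
import Mathlib.AlgebraicGeometry.Morphisms.Finite
import Mathlib.FieldTheory.IsAlgClosed.Basic

/-!
# Closed points of schemes locally of finite type over a field
-/

set_option autoImplicit false
universe u
open CategoryTheory CategoryTheory.Limits AlgebraicGeometry Opposite

namespace K345.FinPt

/-- A nonempty scheme locally of finite type over a field has a point over a finite extension. -/
theorem exists_finPt (E : Type u) [Field E] {T : Scheme.{u}} [Nonempty T]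
    (h : T ⟶ Spec (CommRingCat.of E)) [LocallyOfFiniteType h] :
    ∃ (κ : Type u) (_ : Field κ) (_ : Algebra E κ) (_ : Module.Finite E κ)
      (π : Spec (CommRingCat.of κ) ⟶ T), π ≫ h = Spec.map (CommRingCat.ofHom (algebraMap E κ)) := by
  obtain ⟨t⟩ := (inferInstance : Nonempty T)
  obtain ⟨R, j, hj, ht⟩ : ∃ (R : CommRingCat.{u}) (j : Spec R ⟶ T) (_ : IsOpenImmersion j),
      Nonempty (Spec R) := by
    obtain ⟨i, y, hy⟩ := T.affineCover.exists_eq t
    exact ⟨_, T.affineCover.f i, T.affineCover.map_prop i, ⟨y⟩⟩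
  obtain ⟨g, hg⟩ : ∃ g : CommRingCat.of E ⟶ R, Spec.map g = j ≫ h := ⟨Spec.preimage _, Spec.map_preimage _⟩
  have hft : LocallyOfFiniteType (Spec.map g) := by rw [hg]; infer_instance
  have hft' : g.hom.FiniteType := (HasRingHomProperty.Spec_iff (P := @LocallyOfFiniteType)).1 hft
  have hR : Nontrivial R := PrimeSpectrum.nonempty_iff_nontrivial.1 ht
  obtain ⟨m, hm⟩ := Ideal.exists_maximal R
  let _ : Algebra E R := g.hom.toAlgebra
  have hftA : Algebra.FiniteType E R := hft'
  let _ : Field (R ⧸ m) := Ideal.Quotient.field m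
  have hft2 : Algebra.FiniteType E (R ⧸ m) := inferInstance
  have hfin : Module.Finite E (R ⧸ m) := finite_of_finite_type_of_isJacobsonRing E (R ⧸ m)
  refine ⟨R ⧸ m, inferInstance, inferInstance, hfin,
    Spec.map (CommRingCat.ofHom (Ideal.Quotient.mk m)) ≫ j, ?_⟩
  rw [Category.assoc, ← hg, ← Spec.map_comp]
  rfl

/-- the same, with an embedding of the finite extension in a given algebraically closed field -/
theorem exists_finPt_embed (E Ω : Type u) [Field E] [Field Ω] [IsAlgClosed Ω] [Algebra E Ω]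
    {T : Scheme.{u}} [Nonempty T] (h : T ⟶ Spec (CommRingCat.of E)) [LocallyOfFiniteType h] :
    ∃ (κ : Type u) (_ : Field κ) (j : E →+* κ) (_ : j.Finite) (ι : κ →+* Ω)
      (_ : ι.comp j = algebraMap E Ω)
      (π : Spec (CommRingCat.of κ) ⟶ T), π ≫ h = Spec.map (CommRingCat.ofHom j) := by
  obtain ⟨κ, _, _, hfin, π, hπ⟩ := exists_finPt E h
  let ι : κ →ₐ[E] Ω := IsAlgClosed.lift
  refine ⟨κ, inferInstance, algebraMap E κ, (RingHom.finite_algebraMap).2 hfin, ι.toRingHom, ?_, π, hπ⟩
  exact ι.comp_algebraMap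

/-- a geometric point of a nonempty scheme locally of finite type over a field -/
theorem exists_geomPt (E Ω : Type u) [Field E] [Field Ω] [IsAlgClosed Ω] [Algebra E Ω]
    {T : Scheme.{u}} [Nonempty T] (h : T ⟶ Spec (CommRingCat.of E)) [LocallyOfFiniteType h] :
    ∃ π : Spec (CommRingCat.of Ω) ⟶ T, π ≫ h = Spec.map (CommRingCat.ofHom (algebraMap E Ω)) := by
  obtain ⟨κ, _, j, hj, ι, hι, π, hπ⟩ := exists_finPt_embed E Ω h
  refine ⟨Spec.map (CommRingCat.ofHom ι) ≫ π, ?_⟩
  rw [Category.assoc, hπ, ← hι]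
  exact (Spec.map_comp (CommRingCat.ofHom j) (CommRingCat.ofHom ι)).symm

end K345.FinPt
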