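import Groth.Agent.EtPBC.K345.FieldLim

/-!
# Descent of a vanishing from the geometric fibre to a finite level
-/

set_option autoImplicit false
universe u
open CategoryTheory CategoryTheory.Limits AlgebraicGeometry Opposite Abelian
open scoped Groth.Agent.Etcore.EtInst
open Groth.Agent.Etcore.EtInst Groth.Agent.Etcore.HpullCalc Groth.Agent.Etcore

namespace K345.GalFin

open Groth.Agent.Sga4h.NcTransfer K345.FieldLim K345.LimAbs

attribute [local instance] pfl

theorem spLa_comp (L La : Type u) [Field L] [Field La] [Algebra L La] {A : Type u} [CommRing A]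
    (ψ : A →+* L) : spLa L La ≫ Spec.map (CommRingCat.ofHom ψ) =
      Spec.map (CommRingCat.ofHom ((algebraMap L La).comp ψ)) :=
  (Spec.map_comp (CommRingCat.ofHom ψ) (CommRingCat.ofHom (algebraMap L La))).symm

theorem spE_comp (L La : Type u) [Field L] [Field La] [Algebra L La] (E : IntermediateField L La)
    {A : Type u} [CommRing A] (ψ : A →+* L) : spE L La E ≫ Spec.map (CommRingCat.ofHom ψ) =
      Spec.map (CommRingCat.ofHom ((algebraMap L E).comp ψ)) :=
  (Spec.map_comp (CommRingCat.ofHom ψ) (CommRingCat.ofHom (algebraMap L E))).symm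

theorem exists_compositum {k K k' Ka : Type u} [Field k] [Field K] [Field k'] [Field Ka]
    (φ : k →+* K) (ik : k →+* k') (hik : ik.Finite) [Algebra K Ka] [Algebra.IsAlgebraic K Ka]
    (ι : k' →+* Ka) (hι : ι.comp ik = (algebraMap K Ka).comp φ) :
    ∃ L : IntermediateField K Ka, FiniteDimensional K L ∧ ∀ y, ι y ∈ L := by
  let _ := ik.toAlgebra
  have hfin : Module.Finite k k' := hik
  obtain ⟨S, hS⟩ := hfin.fg_top
  refine ⟨IntermediateField.adjoin K (ι '' (S : Set k')), ?_, ?_⟩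
  · have : Finite (ι '' (S : Set k')) := (S.finite_toSet.image ι)
    exact IntermediateField.finiteDimensional_adjoin fun x _ => Algebra.IsIntegral.isIntegral x
  · intro y
    have hy : y ∈ Submodule.span k (S : Set k') := by rw [hS]; trivial
    induction hy using Submodule.span_induction with
    | mem x hx => exact IntermediateField.subset_adjoin K _ ⟨x, hx, rfl⟩
    | zero => rw [map_zero]; exact zero_mem _
    | add x y _ _ hx hy => rw [map_add]; exact add_mem hx hy
    | smul a x _ hx =>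
      rw [Algebra.smul_def, map_mul]
      refine mul_mem ?_ hx
      have h1 : ι (algebraMap k k' a) = algebraMap K Ka (φ a) := congrArg (fun f => f a) hι
      rw [h1]
      exact IntermediateField.algebraMap_mem _ _

theorem descend {k K : Type u} [Field k] [Field K] (φ : k →+* K) {X XK : Scheme.{u}}
    {sX : X ⟶ Spec (CommRingCat.of k)} {pK : XK ⟶ X} {aK : XK ⟶ Spec (CommRingCat.of K)}
    (cK : IsPullback pK aK sX (Spec.map (CommRingCat.ofHom φ)))
    (Ka : Type u) [Field Ka] [Algebra K Ka] [Algebra.IsAlgebraic K Ka]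
    {k' : Type u} [Field k'] (ik : k →+* k') (hik : ik.Finite) (ι : k' →+* Ka)
    (hι : ι.comp ik = (algebraMap K Ka).comp φ)
    {Z : Scheme.{u}} (z : Z ⟶ X) (bz : Z ⟶ Spec (CommRingCat.of k')) [QuasiCompact bz]
    [QuasiSeparated bz] (hz : z ≫ sX = bz ≫ Spec.map (CommRingCat.ofHom ik))
    (G : EtCoh.Ab XK) (q : ℕ) (ξ : HH XK G q)
    {ZKa : Scheme.{u}} (b : ZKa ⟶ Z) (a : ZKa ⟶ Spec (CommRingCat.of Ka))
    (hP : IsPullback b a bz (Spec.map (CommRingCat.ofHom ι))) (m : ZKa ⟶ XK)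
    (hm1 : m ≫ aK = a ≫ Spec.map (CommRingCat.ofHom (algebraMap K Ka))) (hm2 : m ≫ pK = b ≫ z)
    (hξ : hp m G q ξ = 0) :
    ∃ (K' : Type u) (_ : Field K') (iK : K →+* K') (ψ : k' →+* K') (_ : ψ.comp ik = iK.comp φ)
      (_ : iK.Finite) (ZK : Scheme.{u}) (bZ : ZK ⟶ Z) (aZ : ZK ⟶ Spec (CommRingCat.of K'))
      (_ : IsPullback bZ aZ bz (Spec.map (CommRingCat.ofHom ψ))) (mZ : ZK ⟶ XK)
      (_ : mZ ≫ aK = aZ ≫ Spec.map (CommRingCat.ofHom iK)) (_ : mZ ≫ pK = bZ ≫ z),
      hp mZ G q ξ = 0 := by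
  obtain ⟨L, hL, hιL⟩ := exists_compositum φ ik hik ι hι
  let ψ₀ : k' →+* L := ι.codRestrict L hιL
  have hψ₀ : (algebraMap L Ka).comp ψ₀ = ι := RingHom.ext fun _ => rfl
  have hψik : ψ₀.comp ik = (algebraMap K L).comp φ := by
    apply RingHom.ext
    intro x
    apply Subtype.ext
    exact congrArg (fun f => f x) hι
  let Z₀ := pullback bz (Spec.map (CommRingCat.ofHom ψ₀))
  let f₀ : Z₀ ⟶ Spec (CommRingCat.of L) := pullback.snd _ _
  have hcond : (pullback.fst bz (Spec.map (CommRingCat.ofHom ψ₀)) ≫ z) ≫ sX =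
      (f₀ ≫ Spec.map (CommRingCat.ofHom (algebraMap K L))) ≫ Spec.map (CommRingCat.ofHom φ) := by
    rw [Category.assoc, hz, ← Category.assoc, pullback.condition, Category.assoc, Category.assoc,
      ← Spec.map_comp, ← Spec.map_comp, ← CommRingCat.ofHom_comp, ← CommRingCat.ofHom_comp, hψik]
  let m₀ : Z₀ ⟶ XK := cK.lift _ _ hcond
  have hm₀1 : m₀ ≫ pK = pullback.fst bz (Spec.map (CommRingCat.ofHom ψ₀)) ≫ z := cK.lift_fst _ _ _
  have hm₀2 : m₀ ≫ aK = f₀ ≫ Spec.map (CommRingCat.ofHom (algebraMap K L)) := cK.lift_snd _ _ _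
  let x₀ := hp m₀ G q ξ
  have hx₀ : hp (pullback.fst f₀ (spLa L Ka)) _ q x₀ = 0 := by
    rw [hp_comp_eq_zero_iff (pullback.fst f₀ (spLa L Ka)) m₀ _ rfl G q ξ]
    have e1 : (pullback.fst f₀ (spLa L Ka) ≫ pullback.fst bz (Spec.map (CommRingCat.ofHom ψ₀))) ≫ bz =
        pullback.snd f₀ (spLa L Ka) ≫ Spec.map (CommRingCat.ofHom ι) := by
      rw [Category.assoc, pullback.condition, ← Category.assoc]
      have e2 : pullback.fst f₀ (spLa L Ka) ≫ pullback.snd bz (Spec.map (CommRingCat.ofHom ψ₀)) =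
        pullback.snd f₀ (spLa L Ka) ≫ spLa L Ka := pullback.condition
      rw [e2, Category.assoc, spLa_comp, hψ₀]
    refine hp_eq_zero_of_factor m _ (hP.lift _ _ e1) ?_ G q ξ hξ
    apply cK.hom_ext
    · rw [Category.assoc, Category.assoc, hm2, hm₀1, ← Category.assoc, hP.lift_fst, Category.assoc]
    · rw [Category.assoc, Category.assoc, hm1, hm₀2, ← Category.assoc, hP.lift_snd]
      have e2 : pullback.fst f₀ (spLa L Ka) ≫ f₀ =
        pullback.snd f₀ (spLa L Ka) ≫ spLa L Ka := pullback.condition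
      rw [← Category.assoc, e2, Category.assoc, spLa_comp]
      rfl
  obtain ⟨E, hE, hE0⟩ := exists_finite_hp_eq_zero L Ka f₀ _ q x₀ hx₀
  refine ⟨E, inferInstance, (algebraMap L E).comp (algebraMap K L), (algebraMap L E).comp ψ₀, ?_, ?_,
    pullback f₀ (spE L Ka E), pullback.fst f₀ (spE L Ka E) ≫ pullback.fst bz _,
    pullback.snd f₀ (spE L Ka E), ?_, pullback.fst f₀ (spE L Ka E) ≫ m₀, ?_, ?_, ?_⟩
  · rw [RingHom.comp_assoc, hψik, RingHom.comp_assoc]
  · refine RingHom.Finite.comp ?_ ?_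
    · rw [RingHom.finite_algebraMap]; exact hE
    · rw [RingHom.finite_algebraMap]; exact hL
  · rw [← spE_comp]
    exact (IsPullback.of_hasPullback f₀ (spE L Ka E)).paste_horiz
      (IsPullback.of_hasPullback bz (Spec.map (CommRingCat.ofHom ψ₀)))
  · have e2 : pullback.fst f₀ (spE L Ka E) ≫ f₀ =
      pullback.snd f₀ (spE L Ka E) ≫ spE L Ka E := pullback.condition
    rw [Category.assoc, hm₀2, ← Category.assoc, e2, Category.assoc, spE_comp]
  · rw [Category.assoc, hm₀1, Category.assoc]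
  · exact (hp_comp_eq_zero_iff (pullback.fst f₀ (spE L Ka E)) m₀ _ rfl G q ξ).1 hE0

end K345.GalFin
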