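import Groth.Agent.Sga4h.H222.Tors
import Mathlib.AlgebraicGeometry.Limits

/-!
# Finite étale torsors: base change and the standard isomorphism
-/

set_option autoImplicit false
universe u w
open CategoryTheory CategoryTheory.Limits AlgebraicGeometry Opposite

namespace K345.TorsBC

open Groth.Agent.Sga4h.H222.Tors Groth.Agent.Pi1.H416.PrincDesc

variable {U W U' : Scheme.{u}} {q : W ⟶ U}

/-- For a torsor, `∐_Γ W → W ×_U W` is an isomorphism. -/
theorem isIso_desc {Γ : Type} [Group Γ] {ρ : Γ →* Aut W} (H : IsTors q ρ) :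
    IsIso (Limits.Sigma.desc (fun g : Γ => graph q (ρ g).hom (H.inv g))) := by
  have := H.et
  have ho : ∀ g : Γ, IsOpenImmersion (graph q (ρ g).hom (H.inv g)) := fun g =>
    isOpenImmersion_graph q (ρ g).hom (H.inv g)
  have hd : Pairwise (Function.onFun Disjoint fun g : Γ => Set.range (graph q (ρ g).hom (H.inv g))) := by
    intro g h hgh
    rw [Function.onFun, Set.disjoint_left]
    intro z hz hz'
    exact hgh ((H.exists_unique z).unique hz hz')
  have h1 := isOpenImmersion_sigmaDesc (fun _ : Γ => W) (fun g : Γ => graph q (ρ g).hom (H.inv g)) hd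
  refine isIso_of_isOpenImmersion_of_opensRange_eq_top _ ?_
  rw [eq_top_iff]
  intro z _
  obtain ⟨g, ⟨y, hy⟩, -⟩ := H.exists_unique z
  refine ⟨Limits.Sigma.ι (fun _ : Γ => W) g y, ?_⟩
  rw [← hy]
  have h2 : Limits.Sigma.ι (fun _ : Γ => W) g ≫
      Limits.Sigma.desc (fun g : Γ => graph q (ρ g).hom (H.inv g)) = graph q (ρ g).hom (H.inv g) :=
    Limits.Sigma.ι_desc _ _
  rw [← h2]
  rfl

section

variable {Γ : Type w} [Group Γ] {ρ : Γ →* Aut W}

theorem hom_mul (g h : Γ) : (ρ g).hom ≫ (ρ h).hom = (ρ (h * g)).hom := by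
  rw [map_mul]; rfl

theorem hom_one : (ρ (1 : Γ)).hom = 𝟙 W := by
  rw [map_one]; rfl

/-- the base change of an action -/
noncomputable def bcHom (h : ∀ g, (ρ g).hom ≫ q = q) (v : U' ⟶ U) (g : Γ) :
    pullback q v ⟶ pullback q v :=
  pullback.lift (pullback.fst q v ≫ (ρ g).hom) (pullback.snd q v)
    (by rw [Category.assoc, h, pullback.condition])

theorem bcHom_fst (h : ∀ g, (ρ g).hom ≫ q = q) (v : U' ⟶ U) (g : Γ) :
    bcHom h v g ≫ pullback.fst q v = pullback.fst q v ≫ (ρ g).hom := pullback.lift_fst _ _ _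

theorem bcHom_snd (h : ∀ g, (ρ g).hom ≫ q = q) (v : U' ⟶ U) (g : Γ) :
    bcHom h v g ≫ pullback.snd q v = pullback.snd q v := pullback.lift_snd _ _ _

theorem bcHom_mul (h : ∀ g, (ρ g).hom ≫ q = q) (v : U' ⟶ U) (g g' : Γ) :
    bcHom h v g ≫ bcHom h v g' = bcHom h v (g' * g) := by
  apply pullback.hom_ext
  · rw [Category.assoc, bcHom_fst, ← Category.assoc, bcHom_fst, Category.assoc, bcHom_fst, hom_mul]
  · rw [Category.assoc, bcHom_snd, bcHom_snd, bcHom_snd]

theorem bcHom_one (h : ∀ g, (ρ g).hom ≫ q = q) (v : U' ⟶ U) :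
    bcHom h v (1 : Γ) = 𝟙 _ := by
  apply pullback.hom_ext
  · rw [bcHom_fst, hom_one, Category.comp_id, Category.id_comp]
  · rw [bcHom_snd, Category.id_comp]

/-- the base change of an action -/
noncomputable def bcAct (h : ∀ g, (ρ g).hom ≫ q = q) (v : U' ⟶ U) : Γ →* Aut (pullback q v) where
  toFun g :=
    { hom := bcHom h v g
      inv := bcHom h v g⁻¹
      hom_inv_id := by rw [bcHom_mul, inv_mul_cancel, bcHom_one]
      inv_hom_id := by rw [bcHom_mul, mul_inv_cancel, bcHom_one] }
  map_one' := by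
    apply Iso.ext
    exact bcHom_one h v
  map_mul' g g' := by
    apply Iso.ext
    exact (bcHom_mul h v g' g).symm

theorem isTors_bc (H : IsTors q ρ) (v : U' ⟶ U) : IsTors (pullback.snd q v) (bcAct H.inv v) where
  inv g := bcHom_snd H.inv v g
  fin := by have := H.fin; infer_instance
  et := by have := H.et; infer_instance
  surj := by have := H.surj; infer_instance
  simple Ω _ _ s t hst := by
    have h1 : (s ≫ pullback.fst q v) ≫ q = (t ≫ pullback.fst q v) ≫ q := by
      rw [Category.assoc, Category.assoc, pullback.condition, reassoc_of% hst]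
    obtain ⟨g, hg, hu⟩ := H.simple Ω _ _ h1
    refine ⟨g, ?_, ?_⟩
    · apply pullback.hom_ext
      · rw [Category.assoc]
        change s ≫ bcHom H.inv v g ≫ pullback.fst q v = _
        rw [bcHom_fst, ← hg, Category.assoc]
      · rw [Category.assoc]
        change s ≫ bcHom H.inv v g ≫ pullback.snd q v = _
        rw [bcHom_snd, hst]
    · intro g' hg'
      apply hu
      rw [← hg']
      have e1 : bcHom H.inv v g' ≫ pullback.fst q v = pullback.fst q v ≫ (ρ g').hom :=
        bcHom_fst H.inv v g'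
      exact (Category.assoc _ _ _).trans ((congrArg (fun x => s ≫ x) e1.symm).trans
        (Category.assoc _ _ _).symm)

end

end K345.TorsBC
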