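import Groth.Agent.EtPBC.K345.TorsAct
import Groth.Agent.EtCoh.K720.H1Kill

/-!
# A degree one class with finite constant coefficients is killed by a torsor

`exists_tors_kill`.
-/

set_option autoImplicit false
universe u
open CategoryTheory CategoryTheory.Limits AlgebraicGeometry Opposite Abelian
open scoped Groth.Agent.Etcore.EtInst
open Groth.Agent.Etcore.EtInst

namespace K345.TorsKill

open Groth.Agent.Etcore.HpullCalc Groth.Agent.Etcore.HQ Groth.Agent.Etcore Groth.Agent.EtpbcB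
open Groth.Agent.Etalg.FLCTorsor Groth.Agent.Sga4B.ConstLC Groth.Agent.Sga4h.H222.Tors

attribute [local instance] Groth.Agent.Etcore.HQ.pfl

variable {Y : Scheme.{u}}

theorem exists_tors_kill_LC (M : Type) [AddCommGroup M] [Finite M]
    (ζ : HH Y (LC Y (ULift.{u + 1} M)) 1) :
    ∃ (P : Y.Etale) (ρ : Multiplicative M →* Aut P.left), IsTors P.hom ρ ∧
      hp P.hom (LC Y (ULift.{u + 1} M)) 1 ζ = 0 := by
  have hn : 0 < Nat.card M := Nat.card_pos
  have hk : EtCoh.KilledBy (Nat.card M) (LC Y (ULift.{u + 1} M)) := by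
    intro U s
    refine LocallyConstant.ext fun x => ?_
    apply ULift.down_injective
    change Nat.card M • (DFunLike.coe (F := LocallyConstant U.left (ULift.{u + 1} M)) s x).down = 0
    exact card_nsmul_eq_zero'
  have hS := RpushLoc.injSeq_shortExact (LC Y (ULift.{u + 1} M))
  obtain ⟨x, hx⟩ := NKillH.H_exact₁ hS 0 ζ (Ext.eq_zero_of_injective _)
  have h1 : (Nat.card M • x).comp hS.extClass (rfl : 0 + 1 = 0 + 1) = 0 := by
    rw [K720.H1Kill.nsmul_comp', hx]
    exact IntLam.nsmul_H_eq_zero hk 1 ζ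
  obtain ⟨t, ht⟩ := Ext.covariant_sequence_exact₃ (EtCoh.const Y ℤ) hS (Nat.card M • x)
    (rfl : 0 + 1 = 0 + 1) h1
  obtain ⟨s, hs⟩ := NKillH.H_zero_divisible (RpushLoc.injSeq (LC Y (ULift.{u + 1} M))).X₂ hn t
  let x' : HH Y (RpushLoc.injSeq (LC Y (ULift.{u + 1} M))).X₃ 0 :=
    x - HHmap (RpushLoc.injSeq (LC Y (ULift.{u + 1} M))).g 0 s
  have hx' : Ext.comp x' hS.extClass (rfl : 0 + 1 = 0 + 1) = ζ := by
    have e1 : x' = x + -(HHmap (RpushLoc.injSeq (LC Y (ULift.{u + 1} M))).g 0 s) := sub_eq_add_neg _ _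
    have e2 := NKillH.comp_g_extClass hS s
    have e3 : Ext.comp (HHmap (RpushLoc.injSeq (LC Y (ULift.{u + 1} M))).g 0 s) hS.extClass
      (rfl : 0 + 1 = 0 + 1) = 0 := e2
    refine (congrArg (fun t => Ext.comp t hS.extClass (rfl : 0 + 1 = 0 + 1)) e1).trans ?_
    refine (Ext.add_comp _ _ _ _).trans ?_
    refine (congrArg₂ (fun a b => a + b) hx ((Ext.neg_comp _ _ _).trans (congrArg Neg.neg e3))).trans ?_
    exact (congrArg (fun t => ζ + t) neg_zero).trans (add_zero ζ)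
  have hnx : Nat.card M • H0 Y _ x' = 0 := by
    rw [← map_nsmul, smul_sub, ← map_nsmul, hs, HHmap_apply, ht, sub_self, map_zero]
  obtain ⟨P, k, ρ, hP, hk⟩ := TorsAct.exists_tors M hn hS (H0 Y _ x') hnx
  refine ⟨P, ρ, hP, ?_⟩
  rw [← hx']
  exact K720.H1Kill.hp_comp_extClass_eq_zero hS P x' k hk

/-- A degree one class with coefficients in a finite constant group `M` is killed by a finite étale `M`-torsor. -/
theorem exists_tors_kill (M : Type) [AddCommGroup M] [Finite M] {G : EtCoh.Ab Y}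
    (e : G ≅ EtCoh.const Y M) (ζ : HH Y G 1) :
    ∃ (P : Y.Etale) (ρ : Multiplicative M →* Aut P.left), IsTors P.hom ρ ∧
      hp P.hom G 1 ζ = 0 := by
  let e' : G ≅ LC Y (ULift.{u + 1} M) := e ≪≫ constIso Y M
  obtain ⟨P, ρ, hP, h⟩ := exists_tors_kill_LC M (HHmap e'.hom 1 ζ)
  refine ⟨P, ρ, hP, ?_⟩
  have h1 : HHmap e'.inv 1 (HHmap e'.hom 1 ζ) = ζ := by
    rw [← HHmap_comp, e'.hom_inv_id, HHmap_id]
  rw [← h1, hp_map, h, map_zero]

end K345.TorsKill
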