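import Groth.Agent.EtPBC.K345.ClassDesc
import Groth.Agent.EtPBC.K345.TorsKill
import Groth.Agent.EtPBC.K345.TorsBC
import Groth.Agent.EtPBC.K345.FinPt
import Mathlib.FieldTheory.AlgebraicClosure

/-!
# Killing a degree one class on a geometric fibre by a torsor over a finite extension

`geom_one`.
-/

set_option autoImplicit false
universe u
open CategoryTheory CategoryTheory.Limits AlgebraicGeometry Opposite Abelian
open scoped Groth.Agent.Etcore.EtInst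
open Groth.Agent.Etcore.EtInst Groth.Agent.Etcore.HpullCalc Groth.Agent.Etcore

namespace K345.GeomOne

open Groth.Agent.Sga4h.NcTransfer K345.FieldLim K345.LimAbs Groth.Agent.Sga4h.H222.Tors

attribute [local instance] pfl

/-- the torsor over `k'` obtained from a torsor over the stage `E` -/
theorem exists_torsor {k E Ka : Type u} [Field k] [Field E] [Field Ka] [IsAlgClosed Ka]
    (jE : k →+* E) (hjE : jE.Finite) (ιE : E →+* Ka) {X : Scheme.{u}}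
    (sX : X ⟶ Spec (CommRingCat.of k)) (x : Spec (CommRingCat.of k) ⟶ X) (hx : x ≫ sX = 𝟙 _)
    {XE : Scheme.{u}} {pE : XE ⟶ X} {aE : XE ⟶ Spec (CommRingCat.of E)}
    (hE : IsPullback pE aE sX (Spec.map (CommRingCat.ofHom jE)))
    {Γ : Type} [Group Γ] {Z₀ : Scheme.{u}} (c₀ : Z₀ ⟶ XE) (ρ₀ : Γ →* Aut Z₀) (H : IsTors c₀ ρ₀) :
    ∃ (k' : Type u) (_ : Field k') (ik : k →+* k') (_ : ik.Finite) (j : E →+* k')
      (_ : j.comp jE = ik) (ι : k' →+* Ka) (_ : ι.comp j = ιE)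
      (Xk : Scheme.{u}) (p' : Xk ⟶ X) (a' : Xk ⟶ Spec (CommRingCat.of k'))
      (_ : IsPullback p' a' sX (Spec.map (CommRingCat.ofHom ik)))
      (x' : Spec (CommRingCat.of k') ⟶ Xk) (_ : x' ≫ a' = 𝟙 _)
      (_ : x' ≫ p' = Spec.map (CommRingCat.ofHom ik) ≫ x)
      (v : Xk ⟶ XE) (_ : v ≫ pE = p') (_ : v ≫ aE = a' ≫ Spec.map (CommRingCat.ofHom j))
      (Z : Scheme.{u}) (c : Z ⟶ Xk) (ρ : Γ →* Aut Z) (_ : IsTors c ρ)
      (r : Z ⟶ Z₀) (_ : r ≫ c₀ = c ≫ v)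
      (σ : Spec (CommRingCat.of k') ⟶ Z), σ ≫ c = x' := by
  obtain ⟨xE, hxE, hxE'⟩ : ∃ xE : Spec (CommRingCat.of E) ⟶ XE, xE ≫ aE = 𝟙 _ ∧
      xE ≫ pE = Spec.map (CommRingCat.ofHom jE) ≫ x :=
    ⟨hE.lift (Spec.map (CommRingCat.ofHom jE) ≫ x) (𝟙 _)
      (by rw [Category.assoc, hx, Category.comp_id, Category.id_comp]), hE.lift_snd _ _ _,
      hE.lift_fst _ _ _⟩
  have := H.surj
  have := H.et
  have hne : Nonempty ↥(pullback c₀ xE) := by
    have hs : Surjective (pullback.snd c₀ xE) := inferInstance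
    obtain ⟨y, -⟩ := hs.surj (IsLocalRing.closedPoint E)
    exact ⟨y⟩
  let _ : Algebra E Ka := ιE.toAlgebra
  obtain ⟨κ, _, j, hj, ι, hι, π, hπ⟩ := FinPt.exists_finPt_embed E Ka (pullback.snd c₀ xE)
  obtain ⟨Xk, p', a', hXk⟩ : ∃ (Xk : Scheme.{u}) (p' : Xk ⟶ X) (a' : Xk ⟶ Spec (CommRingCat.of κ)),
      IsPullback p' a' sX (Spec.map (CommRingCat.ofHom (j.comp jE))) :=
    ⟨_, _, _, IsPullback.of_hasPullback _ _⟩
  have hjj : Spec.map (CommRingCat.ofHom j) ≫ Spec.map (CommRingCat.ofHom jE) =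
      Spec.map (CommRingCat.ofHom (j.comp jE)) :=
    (Spec.map_comp (CommRingCat.ofHom jE) (CommRingCat.ofHom j)).symm
  obtain ⟨v, hv, hv'⟩ : ∃ v : Xk ⟶ XE, v ≫ pE = p' ∧ v ≫ aE = a' ≫ Spec.map (CommRingCat.ofHom j) :=
    ⟨hE.lift p' (a' ≫ Spec.map (CommRingCat.ofHom j)) (by rw [Category.assoc, hjj, hXk.w]),
      hE.lift_fst _ _ _, hE.lift_snd _ _ _⟩
  obtain ⟨x', hx', hx''⟩ : ∃ x' : Spec (CommRingCat.of κ) ⟶ Xk, x' ≫ a' = 𝟙 _ ∧
      x' ≫ p' = Spec.map (CommRingCat.ofHom (j.comp jE)) ≫ x :=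
    ⟨hXk.lift (Spec.map (CommRingCat.ofHom (j.comp jE)) ≫ x) (𝟙 _)
      (by rw [Category.assoc, hx, Category.comp_id, Category.id_comp]), hXk.lift_snd _ _ _,
      hXk.lift_fst _ _ _⟩
  have hσ : (π ≫ pullback.fst c₀ xE) ≫ c₀ = x' ≫ v := by
    rw [Category.assoc, pullback.condition, ← Category.assoc, hπ]
    apply hE.hom_ext
    · rw [Category.assoc, hxE', ← Category.assoc, hjj, Category.assoc, hv, hx'']
    · rw [Category.assoc, hxE, Category.comp_id, Category.assoc, hv', ← Category.assoc, hx',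
        Category.id_comp]
  refine ⟨κ, inferInstance, j.comp jE, RingHom.Finite.comp hj hjE, j, rfl, ι, hι, Xk, p', a', hXk, x',
    hx', hx'', v, hv, hv', pullback c₀ v, pullback.snd c₀ v, TorsBC.bcAct H.inv v,
    TorsBC.isTors_bc H v, pullback.fst c₀ v, pullback.condition,
    pullback.lift (π ≫ pullback.fst c₀ xE) x' hσ, pullback.lift_snd _ _ _⟩

theorem geom_one {k Ka : Type u} [Field k] [Field Ka] [IsAlgClosed Ka] (φ : k →+* Ka)
    {X : Scheme.{u}} (sX : X ⟶ Spec (CommRingCat.of k)) [QuasiCompact sX] [QuasiSeparated sX]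
    (x : Spec (CommRingCat.of k) ⟶ X) (hx : x ≫ sX = 𝟙 _)
    (n : ℕ) (hn : (n : k) ≠ 0) (M : Type) [AddCommGroup M] [Finite M] (hM : ∀ y : M, n • y = 0)
    {XKa : Scheme.{u}} {P : XKa ⟶ X} {a : XKa ⟶ Spec (CommRingCat.of Ka)}
    (hP : IsPullback P a sX (Spec.map (CommRingCat.ofHom φ)))
    {G : EtCoh.Ab XKa} (e : G ≅ EtCoh.const XKa M) (ζ : HH XKa G 1) :
    ∃ (k' : Type u) (_ : Field k') (ik : k →+* k') (_ : ik.Finite) (ι : k' →+* Ka)
      (_ : ι.comp ik = φ)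
      (Xk : Scheme.{u}) (p' : Xk ⟶ X) (a' : Xk ⟶ Spec (CommRingCat.of k'))
      (_ : IsPullback p' a' sX (Spec.map (CommRingCat.ofHom ik)))
      (x' : Spec (CommRingCat.of k') ⟶ Xk) (_ : x' ≫ a' = 𝟙 _)
      (_ : x' ≫ p' = Spec.map (CommRingCat.ofHom ik) ≫ x)
      (Z : Scheme.{u}) (c : Z ⟶ Xk) (ρ : Multiplicative M →* Aut Z) (_ : IsTors c ρ)
      (σ : Spec (CommRingCat.of k') ⟶ Z) (_ : σ ≫ c = x'),
      ∀ {W : Scheme.{u}} (b : W ⟶ Z) (m : W ⟶ XKa) (_ : m ≫ P = b ≫ c ≫ p')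
        (_ : m ≫ a ≫ Spec.map (CommRingCat.ofHom ι) = b ≫ c ≫ a'), hp m G 1 ζ = 0 := by
  let _ : Algebra k Ka := φ.toAlgebra
  let ka := algebraicClosure k Ka
  have hcl : IsAlgClosed ka := (algebraicClosure.isAlgClosure k Ka).isAlgClosed
  have halg : Algebra.IsAlgebraic k ka := (algebraicClosure.isAlgClosure k Ka).isAlgebraic
  let ι₀ : ka →+* Ka := algebraMap ka Ka
  have hι₀ : Spec.map (CommRingCat.ofHom ι₀) ≫ spLa k ka = Spec.map (CommRingCat.ofHom φ) :=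
    (Spec.map_comp (CommRingCat.ofHom (algebraMap k ka)) (CommRingCat.ofHom ι₀)).symm
  obtain ⟨t, w, wt⟩ : ∃ t : XKa ⟶ pullback sX (spLa k ka), t ≫ pullback.fst sX (spLa k ka) = P ∧
      t ≫ pullback.snd sX (spLa k ka) = a ≫ Spec.map (CommRingCat.ofHom ι₀) :=
    ⟨pullback.lift P (a ≫ Spec.map (CommRingCat.ofHom ι₀)) (by rw [Category.assoc, hι₀, hP.w]),
      pullback.lift_fst _ _ _, pullback.lift_snd _ _ _⟩
  have ht : IsPullback t a (pullback.snd sX (spLa k ka)) (Spec.map (CommRingCat.ofHom ι₀)) := by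
    refine (IsPullback.of_right (h₁₂ := pullback.fst sX (spLa k ka)) (h₂₂ := spLa k ka)
      (v₁₃ := sX) ?_ wt (IsPullback.of_hasPullback sX (spLa k ka)))
    rw [w, hι₀]
    exact hP
  obtain ⟨E, hE, g, hg1, hg2, y', hy'⟩ := ClassDesc.exists_descend ι₀ sX n hn M hM P a t w ht e ζ
  obtain ⟨Pz, ρ₀, H₀, hz⟩ := TorsKill.exists_tors_kill M
    (EtCore.pullConst (pullback.fst sX (spE k ka E)) M) y'
  obtain ⟨k', _, ik, hik, j, hj, ι, hι, Xk, p', a', hXk, x', hx', hx'', v, hv, hv', Z, c, ρ, hρ, r,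
    hr, σ, hσ⟩ := exists_torsor (algebraMap k E) ((RingHom.finite_algebraMap).2 hE)
    (ι₀.comp (algebraMap E ka)) sX x hx
    (hE := IsPullback.of_hasPullback sX (spE k ka E)) Pz.hom ρ₀ H₀
  have hιik : ι.comp ik = φ := by
    rw [← hj, ← RingHom.comp_assoc, hι]
    rfl
  refine ⟨k', inferInstance, ik, hik, ι, hιik, Xk, p', a', hXk, x', hx', hx'', Z, c, ρ, hρ, σ, hσ,
    fun b m h1 h2 => hy' m ?_⟩
  refine hp_eq_zero_of_factor Pz.hom (m ≫ g) (b ≫ r) ?_ _ 1 y' hz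
  have hbr : (b ≫ r) ≫ Pz.hom = b ≫ c ≫ v := by rw [Category.assoc, hr]
  rw [hbr]
  apply pullback.hom_ext
  · rw [Category.assoc, Category.assoc, hv, Category.assoc, hg1, h1]
  · have h3 : Spec.map (CommRingCat.ofHom (ι.comp j)) =
        Spec.map (CommRingCat.ofHom ι) ≫ Spec.map (CommRingCat.ofHom j) :=
      Spec.map_comp (CommRingCat.ofHom j) (CommRingCat.ofHom ι)
    have h4 : (m ≫ a ≫ Spec.map (CommRingCat.ofHom ι)) ≫ Spec.map (CommRingCat.ofHom j) =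
        (b ≫ c ≫ a') ≫ Spec.map (CommRingCat.ofHom j) := by rw [h2]
    rw [Category.assoc, Category.assoc, hv', Category.assoc, hg2, ← hι, h3]
    rw [Category.assoc, Category.assoc, Category.assoc, Category.assoc] at h4
    exact h4.symm

end K345.GeomOne
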