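import Groth.Agent.Sga4h.NcTransferB
import Groth.Agent.Etcore.PullbackLim

/-!
# Étale cohomology of `Y ×_S lim T`

Abstract forms of the limit theorem for the pullbacks of a system of `S`-schemes along `f : Y ⟶ S`.
-/

set_option autoImplicit false
universe u
open CategoryTheory CategoryTheory.Limits AlgebraicGeometry Opposite Abelian
open scoped Groth.Agent.Etcore.EtInst
open Groth.Agent.Etcore.EtInst Groth.Agent.Etcore.HpullCalc Groth.Agent.Etcore

namespace K345.LimAbs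

open Groth.Agent.Sga4h.NcTransfer

theorem pfl {X Y : Scheme.{u}} (f : X ⟶ Y) : PreservesFiniteLimits (EtCoh.pull f) :=
  Groth.Agent.S0101.result f

attribute [local instance] pfl

/-- vanishing passes to anything further up -/
theorem hp_eq_zero_of_factor {W W' Y : Scheme.{u}} (g : W ⟶ Y) (g' : W' ⟶ Y) (h : W' ⟶ W)
    (w : h ≫ g = g') (F : EtCoh.Ab Y) (p : ℕ) (x : HH Y F p) (hx : hp g F p x = 0) :
    hp g' F p x = 0 := by
  rw [← hp_comp_eq_zero_iff h g g' w F p x, hx, map_zero]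

variable {ι : Type u} [Preorder ι] [IsDirected ι (· ≤ ·)] [Nonempty ι] (T : ιᵒᵖ ⥤ Scheme.{u})
  {S : Scheme.{u}} (τ : ∀ a, T.obj a ⟶ S) (hτ : ∀ ⦃a b : ιᵒᵖ⦄ (h : a ⟶ b), T.map h ≫ τ b = τ a)
  (c : Cone T) (hc : IsLimit c) (t : c.pt ⟶ S) (ht : ∀ a, c.π.app a ≫ τ a = t)
  (haff : ∀ ⦃a b : ιᵒᵖ⦄ (h : a ⟶ b), IsAffineHom (T.map h)) (hqc : ∀ a, CompactSpace (T.obj a))
  (hqs : ∀ a, QuasiSeparatedSpace (T.obj a)) {Y : Scheme.{u}} (f : Y ⟶ S) [QuasiCompact f]
  [QuasiSeparated f]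

include hτ hc ht haff hqc hqs in
theorem exists_eq_zero (F : EtCoh.Ab Y) (p : ℕ) (x : HH Y F p) (hx : hp (pullback.fst f t) F p x = 0) :
    ∃ j, hp (pullback.fst f (τ j)) F p x = 0 := by
  have hlim := PullbackLim.isLimitCone T τ hτ f c t ht hc
  obtain ⟨i₀⟩ := (inferInstance : Nonempty ι)
  have e1 : (PullbackLim.cone T τ hτ f c t ht).π.app (op i₀) ≫ pullback.fst f (τ (op i₀)) =
      pullback.fst f t := PullbackLim.proj_fst T τ f c t ht (op i₀)
  have h1 : hp ((PullbackLim.cone T τ hτ f c t ht).π.app (op i₀)) _ p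
      (hp (pullback.fst f (τ (op i₀))) F p x) = 0 :=
    (hp_comp_eq_zero_iff _ (pullback.fst f (τ (op i₀))) _ e1 F p x).2 hx
  obtain ⟨j, hj, h2⟩ := exists_hp_eq_zero (PullbackLim.sys T τ hτ f)
    (fun a b h ↦ PullbackLim.isAffineHom_mapp T τ hτ f haff h)
    (fun a ↦ PullbackLim.compactSpace_obj T τ hτ f a)
    (fun a ↦ PullbackLim.quasiSeparatedSpace_obj T τ hτ f a)
    (PullbackLim.cone T τ hτ f c t ht) hlim i₀ _ p (hp (pullback.fst f (τ (op i₀))) F p x) h1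
  have e2 : (PullbackLim.sys T τ hτ f).map (homOfLE hj).op ≫ pullback.fst f (τ (op i₀)) =
    pullback.fst f (τ (op j)) := PullbackLim.mapp_fst T τ hτ f (homOfLE hj).op
  exact ⟨op j, (hp_comp_eq_zero_iff _ _ _ e2 F p x).1 h2⟩

/-- the cone with given legs -/
def mkC {P : Scheme.{u}} (π : ∀ a, P ⟶ T.obj a) (hπ : ∀ ⦃a b : ιᵒᵖ⦄ (h : a ⟶ b), π a ≫ T.map h = π b) :
    Cone T where
  pt := P
  π :=
    { app := π
      naturality := fun _ _ h => (Category.id_comp _).trans (hπ h).symm }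

include hτ haff hqc hqs in
theorem exists_hpVia_eq {P : Scheme.{u}} (π : ∀ a, P ⟶ T.obj a)
    (hπ : ∀ ⦃a b : ιᵒᵖ⦄ (h : a ⟶ b), π a ≫ T.map h = π b) (hlim : IsLimit (mkC T π hπ))
    (t : P ⟶ S) (ht : ∀ a, π a ≫ τ a = t) (F : EtCoh.Ab Y) (p : ℕ)
    (y : HH (pullback f t) ((EtCoh.pull (pullback.fst f t)).obj F) p) :
    ∃ (j : ιᵒᵖ) (g : pullback f t ⟶ pullback f (τ j))
      (w : g ≫ pullback.fst f (τ j) = pullback.fst f t)
      (_ : g ≫ pullback.snd f (τ j) = pullback.snd f t ≫ π j)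
      (y' : HH (pullback f (τ j)) ((EtCoh.pull (pullback.fst f (τ j))).obj F) p),
      hpVia g (pullback.fst f (τ j)) (pullback.fst f t) w F p y' = y := by
  have hlim' := PullbackLim.isLimitCone T τ hτ f (mkC T π hπ) t ht hlim
  have haff' : ∀ {a b : ιᵒᵖ} (h : a ⟶ b), IsAffineHom ((PullbackLim.sys T τ hτ f).map h) :=
    fun {a b} h => PullbackLim.isAffineHom_mapp T τ hτ f haff h
  have hqc' : ∀ a, CompactSpace ((PullbackLim.sys T τ hτ f).obj a) := fun a ↦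
    PullbackLim.compactSpace_obj T τ hτ f a
  have hqs' : ∀ a, QuasiSeparatedSpace ((PullbackLim.sys T τ hτ f).obj a) := fun a ↦
    PullbackLim.quasiSeparatedSpace_obj T τ hτ f a
  have hpf : ∀ i, PreservesFiniteLimits (EtCoh.pull (Y := (PullbackLim.sys T τ hτ f).obj i)
    (PullbackLim.proj T τ f (mkC T π hπ) t ht i)) := fun i => pfl _
  obtain ⟨j, y', hy'⟩ := Groth.Agent.Etcore.LimEt.exists_hpVia_eq (D := PullbackLim.sys T τ hτ f)
    (fun a => PullbackLim.proj T τ f (mkC T π hπ) t ht a)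
    (fun {a b} h => PullbackLim.proj_mapp T τ hτ f (mkC T π hπ) t ht h) hlim'
    (fun a => pullback.fst f (τ a)) (fun {a b} h => PullbackLim.mapp_fst T τ hτ f h)
    (fun a => PullbackLim.proj_fst T τ f (mkC T π hπ) t ht a) F p y
  exact ⟨j, _, _, PullbackLim.proj_snd T τ f (mkC T π hπ) t ht j, y', hy'⟩

end K345.LimAbs
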