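import Groth.Agent.EtPBC.K345.LimAbs
import Groth.Agent.Etcore.HpullViaEq

/-!
# Vanishing of `HpullVia` from vanishing of `hp`
-/

set_option autoImplicit false
universe u
open CategoryTheory CategoryTheory.Limits AlgebraicGeometry Opposite

namespace K345.ViaZero

section
open scoped Groth.Agent.Etcore.EtInst
open Groth.Agent.Etcore.EtInst Groth.Agent.Etcore.HpullCalc Groth.Agent.Etcore

theorem zero_eq {W : Scheme.{u}} (F : EtCoh.Ab W) (q : ℕ) : @Eq (EtCoh.H W F q) (0 : HH W F q) 0 := rfl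

theorem hpVia_eq_zero' {W X Y : Scheme.{u}} (m : W ⟶ X) (a : X ⟶ Y) (f₀ : W ⟶ Y) (w : m ≫ a = f₀)
    (F : EtCoh.Ab Y) (q : ℕ) (ξ : HH X ((EtCoh.pull a).obj F) q)
    (h : @hp _ _ m (K345.LimAbs.pfl m) ((EtCoh.pull a).obj F) q ξ = 0)
    [PreservesFiniteLimits (EtCoh.pull m)] : hpVia m a f₀ w F q ξ = 0 :=
  (hpVia_eq_zero_iff m a f₀ w F q ξ).2 h

theorem HpullVia_eq_zero {W X Y : Scheme.{u}} (m : W ⟶ X) (a : X ⟶ Y) (f₀ : W ⟶ Y) (w : m ≫ a = f₀)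
    (F : EtCoh.Ab Y) (q : ℕ) (ξ : HH X ((EtCoh.pull a).obj F) q)
    (h : @hp _ _ m (K345.LimAbs.pfl m) ((EtCoh.pull a).obj F) q ξ = 0)
    [PreservesFiniteLimits (EtCoh.pull m)] :
    @Eq (EtCoh.H W ((EtCoh.pull f₀).obj F) q) (EtCore.HpullVia m a f₀ w F q ξ) 0 :=
  ((HpullVia_apply_eq_hpVia m a f₀ w F q ξ).trans (hpVia_eq_zero' m a f₀ w F q ξ h)).trans (zero_eq _ _)

/-- the vanishing of the pullback of a class -/
def Van {W X Y : Scheme.{u}} (m : W ⟶ X) (a : X ⟶ Y) (F : EtCoh.Ab Y) (q : ℕ)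
    (ξ : HH X ((EtCoh.pull a).obj F) q) : Prop :=
  @hp _ _ m (K345.LimAbs.pfl m) ((EtCoh.pull a).obj F) q ξ = 0

end

/-- the same statement, elaborated without the local instances -/
theorem main {W X Y : Scheme.{u}} (m : W ⟶ X) (a : X ⟶ Y) (f₀ : W ⟶ Y) (w : m ≫ a = f₀)
    (F : EtCoh.Ab Y) (q : ℕ) (ξ : EtCoh.H X ((EtCoh.pull a).obj F) q)
    (h : Van m a F q ξ) [PreservesFiniteLimits (EtCoh.pull m)] :
    EtCore.HpullVia m a f₀ w F q ξ = 0 :=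
  HpullVia_eq_zero m a f₀ w F q ξ h

end K345.ViaZero
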