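import Groth.Agent.EtPBC.K345.Reduce
import Groth.Agent.EtPBC.K345.GeomOne
import Groth.Agent.EtPBC.K345.GalFin
import Groth.Agent.EtPBC.K345.ViaZero

/-!
# Degree one: killing a class by a torsor over a finite extension
-/

set_option autoImplicit false
universe u
open CategoryTheory CategoryTheory.Limits AlgebraicGeometry Opposite Abelian
open scoped Groth.Agent.Etcore.EtInst
open Groth.Agent.Etcore.EtInst Groth.Agent.Etcore.HpullCalc Groth.Agent.Etcore

namespace K345.MainOne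

open Groth.Agent.Sga4h.NcTransfer K345.FieldLim K345.LimAbs Groth.Agent.Sga4h.H222.Tors

attribute [local instance] pfl

/-- the order of a finite abelian group killed by `n` divides a power of `n` -/
theorem exists_card_dvd (M : Type) [AddCommGroup M] [Fintype M] (n : ℕ) (hn : n ≠ 0)
    (hM : ∀ y : M, n • y = 0) : ∃ m : ℕ, Fintype.card M ∣ n ^ m := by
  have h0 : Fintype.card M ≠ 0 := Fintype.card_ne_zero
  have key : ∀ p : ℕ, p.Prime → p ∣ Fintype.card M → p ∣ n := by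
    intro p hp hpd
    have := Fact.mk hp
    obtain ⟨y, hy⟩ := exists_prime_addOrderOf_dvd_card p hpd
    rw [← hy]
    exact addOrderOf_dvd_of_nsmul_eq_zero (hM y)
  refine ⟨Fintype.card M, ?_⟩
  rw [← Nat.factorization_le_iff_dvd h0 (pow_ne_zero _ hn)]
  intro p
  by_cases hp : p.Prime
  · by_cases hpd : p ∣ Fintype.card M
    · rw [Nat.factorization_pow]
      have h1 : 1 ≤ n.factorization p := (hp.dvd_iff_one_le_factorization hn).1 (key p hp hpd)
      have h2 : (Fintype.card M).factorization p ≤ Fintype.card M :=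
        (Nat.factorization_lt p h0).le
      calc (Fintype.card M).factorization p ≤ Fintype.card M := h2
        _ = Fintype.card M * 1 := (mul_one _).symm
        _ ≤ Fintype.card M * n.factorization p := Nat.mul_le_mul_left _ h1
    · rw [Nat.factorization_eq_zero_of_not_dvd hpd]
      exact Nat.zero_le _
  · rw [Nat.factorization_eq_zero_of_not_prime _ hp]
    exact Nat.zero_le _

theorem main_one {k K : Type u} [Field k] [Field K] (φ : k →+* K) {X : Scheme.{u}} [IsAffine X]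
    (sX : X ⟶ Spec (CommRingCat.of k)) (x : Spec (CommRingCat.of k) ⟶ X) (hx : x ≫ sX = 𝟙 _)
    (n : ℕ) (hn : (n : k) ≠ 0) (F : EtCoh.Ab (Spec (CommRingCat.of K))) (hF : EtCoh.KilledBy n F)
    {XK : Scheme.{u}} {pK : XK ⟶ X} {aK : XK ⟶ Spec (CommRingCat.of K)}
    (cK : IsPullback pK aK sX (Spec.map (CommRingCat.ofHom φ)))
    (ξ : HH XK ((EtCoh.pull aK).obj F) 1) :
    ∃ (k' K' : Type u) (_ : Field k') (_ : Field K') (ik : k →+* k') (iK : K →+* K') (ψ : k' →+* K')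
      (_ : ψ.comp ik = iK.comp φ) (_ : ik.Finite) (_ : iK.Finite)
      (Xk : Scheme.{u}) (p' : Xk ⟶ X) (a' : Xk ⟶ Spec (CommRingCat.of k'))
      (_ : IsPullback p' a' sX (Spec.map (CommRingCat.ofHom ik)))
      (x' : Spec (CommRingCat.of k') ⟶ Xk) (_ : x' ≫ a' = 𝟙 _)
      (_ : x' ≫ p' = Spec.map (CommRingCat.ofHom ik) ≫ x)
      (Z : Scheme.{u}) (c : Z ⟶ Xk) (G : Type) (_ : Group G) (_ : Fintype G) (m : ℕ)
      (_ : Fintype.card G ∣ n ^ m) (ρ : G →* Aut Z) (_ : IsTors c ρ)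
      (σ : Spec (CommRingCat.of k') ⟶ Z) (_ : σ ≫ c = x')
      (ZK : Scheme.{u}) (bZ : ZK ⟶ Z) (aZ : ZK ⟶ Spec (CommRingCat.of K'))
      (_ : IsPullback bZ aZ (c ≫ a') (Spec.map (CommRingCat.ofHom ψ)))
      (mZ : ZK ⟶ XK) (_ : mZ ≫ aK = aZ ≫ Spec.map (CommRingCat.ofHom iK))
      (_ : mZ ≫ pK = bZ ≫ c ≫ p'), ViaZero.Van mZ aK F 1 ξ := by
  have hn0 : n ≠ 0 := fun h => hn (by rw [h, Nat.cast_zero])
  have hXKaff : IsAffine XK := IsAffine.of_isIso cK.isoPullback.hom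
  obtain ⟨F', i, ξ', hflc, hk, hξ'⟩ := Reduce.exists_flc_class aK n (Nat.pos_of_ne_zero hn0) F hF 1 ξ
  let Ka := AlgebraicClosure K
  obtain ⟨M, _, _, hM, hconst⟩ := Reduce.exists_const_geom F' hflc n hk Ka
  obtain ⟨W, m, a, hWK⟩ : ∃ (W : Scheme.{u}) (m : W ⟶ XK) (a : W ⟶ Spec (CommRingCat.of Ka)),
      IsPullback m a aK (spLa K Ka) := ⟨_, _, _, IsPullback.of_hasPullback aK (spLa K Ka)⟩
  obtain ⟨e⟩ := hconst aK m a hWK.w
  have hP : IsPullback (m ≫ pK) a sX (Spec.map (CommRingCat.ofHom ((algebraMap K Ka).comp φ))) := by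
    rw [← GalFin.spLa_comp]
    exact hWK.paste_horiz cK
  obtain ⟨k', _, ik, hik, ι, hι, Xk, p', a', hXk, x', hx', hx'', Z, c, ρ, hρ, σ, hσ, hvan⟩ :=
    GeomOne.geom_one ((algebraMap K Ka).comp φ) sX x hx n hn M hM hP e (hp m _ 1 ξ')
  let _ : Fintype M := Fintype.ofFinite M
  let _ : Fintype (Multiplicative M) := inferInstanceAs (Fintype M)
  obtain ⟨r, hr⟩ := exists_card_dvd M n hn0 hM
  have hfin := hρ.fin
  have haff : IsAffineHom a' := MorphismProperty.of_isPullback (P := @IsAffineHom) hXk inferInstance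
  obtain ⟨V, b, aV, hV⟩ : ∃ (V : Scheme.{u}) (b : V ⟶ Z) (aV : V ⟶ Spec (CommRingCat.of Ka)),
      IsPullback b aV (c ≫ a') (Spec.map (CommRingCat.ofHom ι)) :=
    ⟨_, _, _, IsPullback.of_hasPullback _ _⟩
  have hcomp : (b ≫ c ≫ p') ≫ sX =
      aV ≫ Spec.map (CommRingCat.ofHom ((algebraMap K Ka).comp φ)) := by
    have h3 : Spec.map (CommRingCat.ofHom (ι.comp ik)) =
        Spec.map (CommRingCat.ofHom ι) ≫ Spec.map (CommRingCat.ofHom ik) :=
      Spec.map_comp (CommRingCat.ofHom ik) (CommRingCat.ofHom ι)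
    rw [← hι, h3, Category.assoc, Category.assoc, hXk.w, ← Category.assoc aV, ← hV.w,
      Category.assoc, Category.assoc]
  obtain ⟨mV, hmV1, hmV2⟩ : ∃ mV : V ⟶ W, mV ≫ m ≫ pK = b ≫ c ≫ p' ∧ mV ≫ a = aV :=
    ⟨hP.lift _ _ hcomp, hP.lift_fst _ _ _, hP.lift_snd _ _ _⟩
  have h1 : hp mV _ 1 (hp m _ 1 ξ') = 0 := by
    refine hvan b mV hmV1 ?_
    rw [← Category.assoc, hmV2, ← hV.w]
  rw [hp_comp_eq_zero_iff mV m (mV ≫ m) rfl _ 1 ξ'] at h1
  have h2 : hp (mV ≫ m) ((EtCoh.pull aK).obj F) 1 ξ = 0 := by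
    rw [← hξ', hp_map, h1, map_zero]
  obtain ⟨K', _, iK, ψ, hψ, hiK, ZK, bZ, aZ, hZK, mZ, hmZ1, hmZ2, hmZ⟩ :=
    GalFin.descend φ cK Ka ik hik ι hι (c ≫ p') (c ≫ a')
      (by rw [Category.assoc, hXk.w, Category.assoc]) _ 1 ξ b aV hV (mV ≫ m)
      (by rw [Category.assoc, hWK.w, ← Category.assoc, hmV2]; rfl)
      (by rw [Category.assoc, hmV1]) h2
  exact ⟨k', K', inferInstance, inferInstance, ik, iK, ψ, hψ, hik, hiK, Xk, p', a', hXk, x', hx', hx'',
    Z, c, Multiplicative M, inferInstance, inferInstance, r, hr, ρ, hρ, σ, hσ, ZK, bZ, aZ, hZK, mZ,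
    hmZ1, hmZ2, hmZ⟩

end K345.MainOne
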