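import Groth.Agent.EtPBC.K345.MainOne
import Groth.Agent.S0147
import Groth.Agent.EtpbcA.ArtinField
import Groth.Agent.Etcore.DimBaseChange

/-!
# Degree at least two: a class dies on a finite extension
-/

set_option autoImplicit false
universe u
open CategoryTheory CategoryTheory.Limits AlgebraicGeometry Opposite Abelian
open scoped Groth.Agent.Etcore.EtInst
open Groth.Agent.Etcore.EtInst Groth.Agent.Etcore.HpullCalc Groth.Agent.Etcore

namespace K345.MainTwo

open Groth.Agent.Sga4h.NcTransfer K345.FieldLim K345.LimAbs Groth.Agent.Sga4h.H222.Tors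

attribute [local instance] pfl

/-- the trivial torsor -/
theorem isTors_id (X : Scheme.{u}) : IsTors (𝟙 X) (1 : Unit →* Aut X) where
  inv _ := Category.comp_id _
  fin := inferInstance
  et := inferInstance
  surj := inferInstance
  simple Ω _ _ s t hst := by
    rw [Category.comp_id, Category.comp_id] at hst
    refine ⟨(), ?_, fun _ _ => rfl⟩
    change s ≫ 𝟙 X = t
    rw [Category.comp_id, hst]

theorem main_two {k K : Type u} [Field k] [Field K] (φ : k →+* K) {X : Scheme.{u}} [IsAffine X]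
    (hdim : topologicalKrullDim X = 1)
    (sX : X ⟶ Spec (CommRingCat.of k)) [LocallyOfFiniteType sX]
    (x : Spec (CommRingCat.of k) ⟶ X) (hx : x ≫ sX = 𝟙 _)
    (n : ℕ) (hn0 : n ≠ 0) (F : EtCoh.Ab (Spec (CommRingCat.of K))) (hF : EtCoh.KilledBy n F)
    {XK : Scheme.{u}} {pK : XK ⟶ X} {aK : XK ⟶ Spec (CommRingCat.of K)}
    (cK : IsPullback pK aK sX (Spec.map (CommRingCat.ofHom φ))) (q : ℕ) (hq : 1 < q)
    (ξ : HH XK ((EtCoh.pull aK).obj F) q) :
    ∃ (k' K' : Type u) (_ : Field k') (_ : Field K') (ik : k →+* k') (iK : K →+* K') (ψ : k' →+* K')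
      (_ : ψ.comp ik = iK.comp φ) (_ : ik.Finite) (_ : iK.Finite)
      (Xk : Scheme.{u}) (p' : Xk ⟶ X) (a' : Xk ⟶ Spec (CommRingCat.of k'))
      (_ : IsPullback p' a' sX (Spec.map (CommRingCat.ofHom ik)))
      (x' : Spec (CommRingCat.of k') ⟶ Xk) (_ : x' ≫ a' = 𝟙 _)
      (_ : x' ≫ p' = Spec.map (CommRingCat.ofHom ik) ≫ x)
      (Z : Scheme.{u}) (c : Z ⟶ Xk) (G : Type) (_ : Group G) (_ : Fintype G) (m : ℕ)
      (_ : Fintype.card G ∣ n ^ m) (ρ : G →* Aut Z) (_ : IsTors c ρ)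
      (σ : Spec (CommRingCat.of k') ⟶ Z) (_ : σ ≫ c = x')
      (ZK : Scheme.{u}) (bZ : ZK ⟶ Z) (aZ : ZK ⟶ Spec (CommRingCat.of K'))
      (_ : IsPullback bZ aZ (c ≫ a') (Spec.map (CommRingCat.ofHom ψ)))
      (mZ : ZK ⟶ XK) (_ : mZ ≫ aK = aZ ≫ Spec.map (CommRingCat.ofHom iK))
      (_ : mZ ≫ pK = bZ ≫ c ≫ p'), ViaZero.Van mZ aK F q ξ := by
  have hXKaff : IsAffine XK := IsAffine.of_isIso cK.isoPullback.hom
  let Ka := AlgebraicClosure K
  obtain ⟨W, m, a, hWK⟩ : ∃ (W : Scheme.{u}) (m : W ⟶ XK) (a : W ⟶ Spec (CommRingCat.of Ka)),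
      IsPullback m a aK (spLa K Ka) := ⟨_, _, _, IsPullback.of_hasPullback aK (spLa K Ka)⟩
  have hWaff : IsAffine W := IsAffine.of_isIso hWK.isoPullback.hom
  have hP : IsPullback (m ≫ pK) a sX (Spec.map (CommRingCat.ofHom ((algebraMap K Ka).comp φ))) := by
    rw [← GalFin.spLa_comp]
    exact hWK.paste_horiz cK
  have hlft : LocallyOfFiniteType a := MorphismProperty.of_isPullback (P := @LocallyOfFiniteType) hP
    inferInstance
  have hd : topologicalKrullDim W ≤ 1 := by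
    rw [Groth.Agent.Etcore.DimBaseChange.topologicalKrullDim_eq (K := CommRingCat.of k)
      (L := CommRingCat.of Ka) (Field.toIsField k) (Field.toIsField Ka) sX a (m ≫ pK) _ hP, hdim]
  have hcd : EtCoh.CohDimLE W (1 + 0) := Groth.Agent.S0147.result Ka W a 0 hd
    (Groth.Agent.EtpbcA.Artin.cohDimLE_of_isSepClosed Ka)
  have htors : EtCoh.IsTorsion ((EtCoh.pull m).obj ((EtCoh.pull aK).obj F)) :=
    Groth.Agent.Etcore.Torsion.isTorsion_pull m _ (Groth.Agent.Etcore.Torsion.isTorsion_pull aK _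
      (Reduce.isTorsion_of_killedBy (Nat.pos_of_ne_zero hn0) hF))
  have hsub : Subsingleton (HH W ((EtCoh.pull m).obj ((EtCoh.pull aK).obj F)) q) :=
    hcd _ htors q (by omega)
  have h2 : hp m ((EtCoh.pull aK).obj F) q ξ = 0 := Subsingleton.elim _ _
  have hid : IsPullback (𝟙 X) sX sX (Spec.map (CommRingCat.ofHom (RingHom.id k))) := by
    have h3 : Spec.map (CommRingCat.ofHom (RingHom.id k)) = 𝟙 _ := Spec.map_id _
    rw [h3]
    exact IsPullback.of_horiz_isIso ⟨by rw [Category.comp_id, Category.id_comp]⟩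
  have h3 : Spec.map (CommRingCat.ofHom (RingHom.id k)) = 𝟙 _ := Spec.map_id _
  obtain ⟨K', _, iK, ψ, hψ, hiK, ZK, bZ, aZ, hZK, mZ, hmZ1, hmZ2, hmZ⟩ :=
    GalFin.descend φ cK Ka (RingHom.id k) (RingHom.Finite.id k) ((algebraMap K Ka).comp φ) rfl
      (𝟙 X ≫ 𝟙 X) (𝟙 X ≫ sX) (by rw [h3]; simp only [Category.comp_id, Category.id_comp]) _ q ξ
      (m ≫ pK) a (by rw [Category.id_comp]; exact hP) m hWK.w
      (by rw [Category.comp_id, Category.comp_id]) h2
  exact ⟨k, K', inferInstance, inferInstance, RingHom.id k, iK, ψ, hψ, RingHom.Finite.id k, hiK, X,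
    𝟙 X, sX, hid, x, hx, by rw [h3, Category.comp_id, Category.id_comp], X, 𝟙 X, Unit, inferInstance,
    inferInstance, 0, by simp, 1, isTors_id X, x, Category.comp_id _, ZK, bZ, aZ, hZK, mZ, hmZ1,
    hmZ2, hmZ⟩

end K345.MainTwo
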