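import Groth.Agent.EtPBC.K345.ClassDesc
import Groth.Agent.EtPBC.K345.FinPt
import Groth.Agent.EtpbcB.EffaceMain
import Groth.Agent.Etbase.EtColimBig
import Groth.Agent.EtpbcA.KilledBy
import Groth.Agent.Sga2lef.H97.FieldCons
import Groth.Agent.Etrest.LocAcyc
import Groth.Agent.S0141

/-!
# Reduction to finite locally constant coefficients on the spectrum of a field
-/

set_option autoImplicit false
universe u
open CategoryTheory CategoryTheory.Limits AlgebraicGeometry Opposite Abelian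
open scoped Groth.Agent.Etcore.EtInst
open Groth.Agent.Etcore.EtInst Groth.Agent.Etcore.HpullCalc Groth.Agent.Etcore

namespace K345.Reduce

open Groth.Agent.Sga4h.NcTransfer K345.FieldLim K345.LimAbs

attribute [local instance] pfl

theorem killedBy_of_mono {X : Scheme.{u}} (n : ℕ) {F F' : EtCoh.Ab X} (i : F' ⟶ F) [Mono i]
    (h : EtCoh.KilledBy n F) : EtCoh.KilledBy n F' := by
  rw [Groth.Agent.EtpbcB.TorsionBasic.killedBy_iff] at h ⊢
  rw [← cancel_mono i, Preadditive.nsmul_comp, Category.id_comp, ← Category.comp_id i,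
    ← Preadditive.comp_nsmul, h, Limits.comp_zero, Limits.zero_comp]

theorem isTorsion_of_killedBy {X : Scheme.{u}} {n : ℕ} (hn : 0 < n) {F : EtCoh.Ab X}
    (h : EtCoh.KilledBy n F) : EtCoh.IsTorsion F := by
  intro U s x
  refine ⟨U, 𝟙 U, ⟨x, rfl⟩, ?_⟩
  rw [isOfFinAddOrder_iff_nsmul_eq_zero]
  exact ⟨n, hn, h U _⟩

theorem exists_flc_class {K : Type u} [Field K] {XK : Scheme.{u}} [CompactSpace XK]
    [QuasiSeparatedSpace XK] (aK : XK ⟶ Spec (CommRingCat.of K)) (n : ℕ) (hn : 0 < n)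
    (F : EtCoh.Ab (Spec (CommRingCat.of K))) (hF : EtCoh.KilledBy n F) (q : ℕ)
    (ξ : HH XK ((EtCoh.pull aK).obj F) q) :
    ∃ (F' : EtCoh.Ab (Spec (CommRingCat.of K))) (i : F' ⟶ F)
      (ξ' : HH XK ((EtCoh.pull aK).obj F') q),
      EtCoh.IsFiniteLocallyConstant F' ∧ EtCoh.KilledBy n F' ∧
      HHmap ((EtCoh.pull aK).map i) q ξ' = ξ := by
  obtain ⟨D, a, ξ₀, hD, hξ₀⟩ := Groth.Agent.EtpbcB.EffaceMain.exists_constructible_class aK q
    (fun J _ _ => Groth.Agent.Etbase.EtColimBig.preservesColimits_HF_big XK J q) F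
    (isTorsion_of_killedBy hn hF) ξ
  have hξ₀' : HHmap ((EtCoh.pull aK).map a) q ξ₀ = ξ := hξ₀
  obtain ⟨N, hN, hND⟩ := Groth.Agent.EtpbcA.KilledBy.exists_killedBy_of_isConstructible hD
  have hn' := killedBy_of_mono n (Limits.image.ι a) hF
  have hc : EtPBC.IsConstructible (Limits.image a) :=
    Groth.Agent.S0141.result _ (factorThruImage a) N hN hND hD
  refine ⟨Limits.image a, Limits.image.ι a, HHmap ((EtCoh.pull aK).map (factorThruImage a)) q ξ₀,
    Groth.Agent.Sga2lef.H97.FieldCons.isFLC_of_isConstructible _ hc, hn', ?_⟩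
  rw [← HHmap_comp, ← Functor.map_comp, Limits.image.fac, hξ₀']

/-- a finite locally constant sheaf on the spectrum of a field becomes constant on anything over an algebraically
closed extension -/
theorem exists_const_geom {K : Type u} [Field K] (F : EtCoh.Ab (Spec (CommRingCat.of K)))
    (hF : EtCoh.IsFiniteLocallyConstant F) (n : ℕ) (hn : EtCoh.KilledBy n F) (Ka : Type u) [Field Ka]
    [IsAlgClosed Ka] [Algebra K Ka] :
    ∃ (M : Type) (_ : AddCommGroup M) (_ : Finite M), (∀ y : M, n • y = 0) ∧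
      ∀ {W XK : Scheme.{u}} (aK : XK ⟶ Spec (CommRingCat.of K)) (m : W ⟶ XK)
        (a : W ⟶ Spec (CommRingCat.of Ka)) (_ : m ≫ aK = a ≫ spLa K Ka),
      Nonempty ((EtCoh.pull m).obj ((EtCoh.pull aK).obj F) ≅ EtCoh.const W M) := by
  obtain ⟨U, M, _, _, ⟨y, -⟩, hM, ⟨e⟩⟩ := Groth.Agent.Etrest.LocAcyc.exists_local_const F hF n hn
    (IsLocalRing.closedPoint K)
  have : Nonempty U.left := ⟨y⟩
  have hU : Etale U.hom := U.prop
  obtain ⟨π, hπ⟩ := FinPt.exists_geomPt K Ka (T := U.left) U.hom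
  refine ⟨M, inferInstance, inferInstance, hM, fun {W XK} aK m a hm => ⟨?_⟩⟩
  have h1 : m ≫ aK = (a ≫ π) ≫ U.hom := by
    rw [hm, Category.assoc, hπ]
    rfl
  exact ((EtCore.pullComp m aK).app F).symm ≪≫ (EtCore.pullCongr h1).app F ≪≫
    (EtCore.pullComp (a ≫ π) U.hom).app F ≪≫ (EtCoh.pull (a ≫ π)).mapIso e ≪≫
    EtCore.pullConst (a ≫ π) M

end K345.Reduce
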