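import Groth.Agent.EtPBC.K345.TorsRep
import Groth.Agent.Fga.Torsor
import Groth.Agent.Sga4h.H222.Tors

/-!
# The torsor of lifts is a torsor

`exists_tors`: `0 → M → K → Q → 0` exact, `M` a finite abelian group (constant sheaf, as locally constant functions),
`q ∈ Q(Y)` killed by `n > 0`: there is a finite étale `M`-torsor `P → Y` and a lift of `q` to `K(P)`.
-/

set_option autoImplicit false
universe u
open CategoryTheory CategoryTheory.Limits AlgebraicGeometry Opposite

namespace K345.TorsAct

open Groth.Agent.Sga4B.ConstLC Groth.Agent.EtpbcA Groth.Agent.Etalg.FLCTorsor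
open Groth.Agent.Sga4h.H222.Tors

variable {Y : Scheme.{u}}

/-- the square of an object of the small étale site -/
noncomputable def sq (P : Y.Etale) : Y.Etale :=
  Scheme.Etale.mk (pullback.fst P.hom P.hom ≫ P.hom)

noncomputable def p1 (P : Y.Etale) : sq P ⟶ P :=
  MorphismProperty.Over.homMk (pullback.fst P.hom P.hom) rfl

noncomputable def p2 (P : Y.Etale) : sq P ⟶ P :=
  MorphismProperty.Over.homMk (pullback.snd P.hom P.hom) pullback.condition.symm

/-- the graph of an endomorphism -/
noncomputable def gr {P : Y.Etale} (a : P ⟶ P) : P ⟶ sq P :=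
  MorphismProperty.Over.homMk (pullback.lift (𝟙 P.left) a.left
    ((Category.id_comp _).trans (EqLocus.hom_w a).symm))
    (by
      change pullback.lift (𝟙 P.left) a.left _ ≫ pullback.fst P.hom P.hom ≫ P.hom = P.hom
      rw [pullback.lift_fst_assoc, Category.id_comp])

theorem gr_p1 {P : Y.Etale} (a : P ⟶ P) : gr a ≫ p1 P = 𝟙 P := by
  apply EqLocus.hom_ext
  change pullback.lift (𝟙 P.left) a.left _ ≫ pullback.fst P.hom P.hom = 𝟙 P.left
  rw [pullback.lift_fst]

theorem gr_p2 {P : Y.Etale} (a : P ⟶ P) : gr a ≫ p2 P = a := by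
  apply EqLocus.hom_ext
  change pullback.lift (𝟙 P.left) a.left _ ≫ pullback.snd P.hom P.hom = a.left
  rw [pullback.lift_snd]

section

variable (M : Type) [AddCommGroup M]

/-- the constant section -/
noncomputable def cs (T : Y.Etale) (m : M) : EtCoh.sect (LC Y (ULift.{u + 1} M)) T :=
  constSec (ULift.{u + 1} M) T ⟨m⟩

theorem cs_add (T : Y.Etale) (m m' : M) : cs M T (m + m') = cs M T m + cs M T m' := by
  exact map_add (constSec (ULift.{u + 1} M) T).hom ⟨m⟩ ⟨m'⟩

theorem cs_zero (T : Y.Etale) : cs M T 0 = 0 :=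
  map_zero (constSec (ULift.{u + 1} M) T).hom

theorem map_cs {T T' : Y.Etale} (g : T' ⟶ T) (m : M) :
    (LC Y (ULift.{u + 1} M)).obj.map g.op (cs M T m) = cs M T' m := rfl

theorem cs_apply (T : Y.Etale) (m : M) (x : T.left) :
    DFunLike.coe (F := LocallyConstant T.left (ULift.{u + 1} M)) (cs M T m) x = ⟨m⟩ := rfl

end

theorem exists_tors (M : Type) [AddCommGroup M] [Finite M] {n : ℕ} (hn : 0 < n) {K Q : EtCoh.Ab Y}
    {f : LC Y (ULift.{u + 1} M) ⟶ K} {p : K ⟶ Q}
    {w : f ≫ p = 0} (hS : (ShortComplex.mk f p w).ShortExact)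
    (q : EtCoh.sect Q (EtCoh.top Y)) (hq : n • q = 0) :
    ∃ (P : Y.Etale) (k : EtCoh.sect K P) (ρ : Multiplicative M →* Aut P.left), IsTors P.hom ρ ∧
      p.hom.app (op P) k = Q.obj.map (toTop P).op q := by
  obtain ⟨P, κ, hfin, hsurj, hκ, hrep⟩ := TorsRep.exists_rep hn hS (isFLC_LC M) q hq
  have hmono : Mono f := hS.mono_f
  have hinj : ∀ T : Y.Etale, Function.Injective (f.hom.app (op T)) := fun T =>
    Groth.Agent.Fga.Torsor.injective_of_mono f (op T)
  have htop : ∀ (T T' : Y.Etale) (g : T' ⟶ T), g ≫ toTop T = toTop T' := fun T T' g =>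
    (Groth.Agent.Etbase.EtColim.topIsTerminal Y).hom_ext _ _
  -- naturality
  have hpn : ∀ {T T' : Y.Etale} (g : T' ⟶ T) (t : EtCoh.sect K T),
      p.hom.app (op T') (K.obj.map g.op t) = Q.obj.map g.op (p.hom.app (op T) t) := fun g t =>
    ConcreteCategory.congr_hom (p.hom.naturality g.op) t
  have hfn : ∀ {T T' : Y.Etale} (g : T' ⟶ T) (t : EtCoh.sect (LC Y (ULift.{u + 1} M)) T),
      f.hom.app (op T') ((LC Y (ULift.{u + 1} M)).obj.map g.op t) = K.obj.map g.op (f.hom.app (op T) t) :=
    fun g t => ConcreteCategory.congr_hom (f.hom.naturality g.op) t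
  have hpf : ∀ (T : Y.Etale) (t : EtCoh.sect (LC Y (ULift.{u + 1} M)) T),
      p.hom.app (op T) (f.hom.app (op T) t) = 0 := by
    intro T t
    have h : (f ≫ p).hom.app (op T) t = 0 := by rw [w]; rfl
    exact h
  have hκT : ∀ {T : Y.Etale} (g : T ⟶ P),
      p.hom.app (op T) (K.obj.map g.op κ) = Q.obj.map (toTop T).op q := by
    intro T g
    rw [hpn, hκ, ← htop P T g, EqLocus.map_comp]
  have huniq : ∀ {T : Y.Etale} (g g' : T ⟶ P), K.obj.map g.op κ = K.obj.map g'.op κ → g = g' := by
    intro T g g' h
    exact (hrep T _ (hκT g)).unique rfl h.symm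
  have hact : ∀ m : M, ∃ a : P ⟶ P, K.obj.map a.op κ = κ + f.hom.app (op P) (cs M P m) := by
    intro m
    have h1 : p.hom.app (op P) (κ + f.hom.app (op P) (cs M P m)) = Q.obj.map (toTop P).op q := by
      rw [map_add, hpf, add_zero, hκ]
    exact (hrep P _ h1).exists
  choose act hact using hact
  have hactT : ∀ {T : Y.Etale} (g : T ⟶ P) (m : M),
      K.obj.map (g ≫ act m).op κ = K.obj.map g.op κ + f.hom.app (op T) (cs M T m) := by
    intro T g m
    rw [EqLocus.map_comp, hact, map_add, ← hfn, map_cs]
  have hmul : ∀ m m' : M, act m ≫ act m' = act (m + m') := by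
    intro m m'
    apply huniq
    rw [hactT, hact, hact, cs_add, map_add, add_assoc]
  have hone : act 0 = 𝟙 P := by
    apply huniq
    rw [hact, cs_zero, map_zero, add_zero, op_id, K.obj.map_id]
    rfl
  let ρ : Multiplicative M →* Aut P.left :=
    { toFun := fun m =>
        { hom := (act m.toAdd).left
          inv := (act (-m.toAdd)).left
          hom_inv_id := by
            have h := congrArg (fun x : P ⟶ P => x.left) ((hmul m.toAdd (-m.toAdd)).trans (by
              rw [add_neg_cancel, hone]))
            exact h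
          inv_hom_id := by
            have h := congrArg (fun x : P ⟶ P => x.left) ((hmul (-m.toAdd) m.toAdd).trans (by
              rw [neg_add_cancel, hone]))
            exact h }
      map_one' := by
        apply Iso.ext
        exact congrArg (fun x : P ⟶ P => x.left) hone
      map_mul' := by
        intro a b
        apply Iso.ext
        have h := congrArg (fun x : P ⟶ P => x.left) (hmul b.toAdd a.toAdd)
        refine Eq.trans ?_ h.symm
        change (act (a.toAdd + b.toAdd)).left = _
        rw [add_comm] }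
  have hρ : ∀ g : Multiplicative M, (ρ g).hom = (act g.toAdd).left := fun _ => rfl
  -- the difference cocycle
  have hd0 : p.hom.app (op (sq P)) (K.obj.map (p2 P).op κ - K.obj.map (p1 P).op κ) = 0 := by
    rw [map_sub, hκT, hκT, sub_self]
  obtain ⟨δ, hδ⟩ := Groth.Agent.Fga.Torsor.exists_of_map_eq_zero hS
    (K.obj.map (p2 P).op κ - K.obj.map (p1 P).op κ) hd0
  change EtCoh.sect (LC Y (ULift.{u + 1} M)) (sq P) at δ
  change f.hom.app (op (sq P)) δ = _ at hδ
  have key1 : ∀ (T : Y.Etale) (g : T ⟶ sq P) (m : M),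
      (LC Y (ULift.{u + 1} M)).obj.map g.op δ = cs M T m → g ≫ p2 P = g ≫ p1 P ≫ act m := by
    intro T g m h
    apply huniq
    rw [← Category.assoc, hactT, ← h, hfn, hδ, map_sub, ← EqLocus.map_comp, ← EqLocus.map_comp]
    abel
  have key2 : ∀ m : M, (LC Y (ULift.{u + 1} M)).obj.map (gr (act m)).op δ = cs M P m := by
    intro m
    apply hinj
    rw [hfn, hδ, map_sub, ← EqLocus.map_comp, ← EqLocus.map_comp, gr_p1, gr_p2, hact, op_id,
      K.obj.map_id]
    exact add_sub_cancel_left κ _
  let δ' : LocallyConstant (sq P).left (ULift.{u + 1} M) := δ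
  have key2' : ∀ (m : M) (x : P.left), δ' ((gr (act m)).left x) = ⟨m⟩ := by
    intro m x
    exact congrArg (fun y : LocallyConstant P.left (ULift.{u + 1} M) => y x) (key2 m)
  refine ⟨P, κ, ρ, ⟨fun g => ?_, hfin, inferInstance, hsurj, ?_⟩, hκ⟩
  · rw [hρ]; exact EqLocus.hom_w _
  · intro Ω _ _ s t hst
    let st : Spec (CommRingCat.of Ω) ⟶ (sq P).left := pullback.lift s t hst
    have hs1 : st ≫ (p1 P).left = s := pullback.lift_fst _ _ _
    have hs2 : st ≫ (p2 P).left = t := pullback.lift_snd _ _ _
    let d : (sq P).left := st default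
    refine ⟨Multiplicative.ofAdd (δ' d).down, ?_, ?_⟩
    · let O : (sq P).left.Opens := ⟨δ' ⁻¹' {δ' d}, δ'.isLocallyConstant.isOpen_fiber _⟩
      have hO : Set.range st ⊆ Set.range O.ι := by
        rw [Scheme.Opens.range_ι]
        rintro _ ⟨x, rfl⟩
        have : x = default := Subsingleton.elim _ _
        subst this
        rfl
      let s' := IsOpenImmersion.lift O.ι st hO
      have hs' : s' ≫ O.ι = st := IsOpenImmersion.lift_fac O.ι st hO
      have h1 : (LC Y (ULift.{u + 1} M)).obj.map (EqLocus.openι (sq P) O).op δ =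
          cs M (EqLocus.openSub (sq P) O) (δ' d).down := by
        refine LocallyConstant.ext fun x => ?_
        exact x.2
      have h2 := congrArg (fun x => s' ≫ x.left) (key1 _ _ _ h1)
      have h3 : (s' ≫ O.ι) ≫ (p2 P).left = (s' ≫ O.ι) ≫ (p1 P).left ≫ (act (δ' d).down).left := by
        rw [Category.assoc, Category.assoc]
        exact h2
      rw [hs', hs2, ← Category.assoc, hs1] at h3
      exact h3.symm
    · intro g hg
      have h1 : st = s ≫ (gr (act g.toAdd)).left := by
        apply pullback.hom_ext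
        · change st ≫ (p1 P).left = _
          have h4 := congrArg (fun x => s ≫ x.left) (gr_p1 (act g.toAdd))
          refine hs1.trans (Eq.trans ?_ (h4.symm.trans (Category.assoc _ _ _).symm))
          exact (Category.comp_id s).symm
        · change st ≫ (p2 P).left = _
          have h4 := congrArg (fun x => s ≫ x.left) (gr_p2 (act g.toAdd))
          refine hs2.trans (Eq.trans ?_ (h4.symm.trans (Category.assoc _ _ _).symm))
          exact hg.symm
      have h2 : d = (gr (act g.toAdd)).left (s default) := by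
        change st default = _
        rw [h1]
        rfl
      have h3 : δ' d = ⟨g.toAdd⟩ := by rw [h2, key2']
      rw [h3]
      rfl

end K345.TorsAct
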