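import Groth.Agent.Etalg.FLCTorsor
import Groth.Agent.EtpbcA.EqLocus

/-!
# The torsor of lifts is representable by a finite étale scheme

`exists_rep`: `0 → G → K → Q → 0` exact, `G` finite locally constant, `q ∈ Q(Y)` killed by `n > 0`.  The sheaf
of lifts of `q` to `K` is represented by a finite étale surjective `P → Y`.
-/

set_option autoImplicit false
universe u
open CategoryTheory CategoryTheory.Limits AlgebraicGeometry Opposite

namespace K345.TorsRep

open Groth.Agent.Sga4B.ConstLC Groth.Agent.EtpbcA Groth.Agent.Etalg.FLCTorsor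

variable {Y : Scheme.{u}}

open Groth.Agent.CurvesA Groth.Agent.EtpbcA.CdDiesEt in
/-- sections of a fibre product are determined by their projections -/
theorem pullback_sect_ext {K L Q : EtCoh.Ab Y} (p : K ⟶ Q) (φ : L ⟶ Q) {T : Y.Etale}
    (a b : EtCoh.sect (pullback p φ) T)
    (h1 : (pullback.fst p φ).hom.app (op T) a = (pullback.fst p φ).hom.app (op T) b)
    (h2 : (pullback.snd p φ).hom.app (op T) a = (pullback.snd p φ).hom.app (op T) b) : a = b := by
  let a' : (Zf Y).obj T ⟶ pullback p φ := SiteZU.lift.{u + 1} a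
  let b' : (Zf Y).obj T ⟶ pullback p φ := SiteZU.lift.{u + 1} b
  have ha : SiteZU.ev.{u + 1} a' = a := SiteZU.ev_lift.{u + 1} a
  have hb : SiteZU.ev.{u + 1} b' = b := SiteZU.ev_lift.{u + 1} b
  have e : a' = b' := by
    apply pullback.hom_ext
    · apply SiteZU.ev_injective
      rw [SiteZU.ev_comp, SiteZU.ev_comp, ha, hb]
      exact h1
    · apply SiteZU.ev_injective
      rw [SiteZU.ev_comp, SiteZU.ev_comp, ha, hb]
      exact h2
  rw [← ha, ← hb, e]

theorem exists_rep {n : ℕ} (hn : 0 < n) {G K Q : EtCoh.Ab Y} {f : G ⟶ K} {p : K ⟶ Q}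
    {w : f ≫ p = 0} (hS : (ShortComplex.mk f p w).ShortExact)
    (h1 : EtCoh.IsFiniteLocallyConstant G) (q : EtCoh.sect Q (EtCoh.top Y)) (hq : n • q = 0) :
    ∃ (P : Y.Etale) (k : EtCoh.sect K P), IsFinite P.hom ∧ Surjective P.hom ∧
      p.hom.app (op P) k = Q.obj.map (toTop P).op q ∧
      ∀ (T : Y.Etale) (t : EtCoh.sect K T), p.hom.app (op T) t = Q.obj.map (toTop T).op q →
        ∃! g : T ⟶ P, K.obj.map g.op k = t := by
  have : NeZero n := ⟨hn.ne'⟩
  have hp : Epi p := hS.epi_g
  obtain ⟨φ, hφ⟩ := exists_hom Q q hq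
  have hφT : ∀ T : Y.Etale, φ.hom.app (op T) (constSec (ULift.{u + 1} (ZMod n)) T ⟨1⟩) =
      Q.obj.map (toTop T).op q := by
    intro T
    rw [← hφ]
    exact ConcreteCategory.congr_hom (φ.hom.naturality (toTop T).op)
      (constSec (ULift.{u + 1} (ZMod n)) (EtCoh.top Y) ⟨1⟩)
  let E := pullback p φ
  have hE : EtCoh.IsFiniteLocallyConstant E :=
    FLCExact.flc_extension (pb_shortExact hS φ) h1 (isFLC_LC (ZMod n))
  obtain ⟨U, hU, ⟨e⟩⟩ := Groth.Agent.S0107.result E hE
  let e0 : EtCoh.sect E U := e.inv.app (op U) ⟨𝟙 U⟩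
  have hmap : ∀ (T : Y.Etale) (g : T ⟶ U), E.obj.map g.op e0 = e.inv.app (op T) ⟨g⟩ := by
    intro T g
    have h2 := ConcreteCategory.congr_hom (e.inv.naturality g.op) (⟨𝟙 U⟩ : ULift (U ⟶ U))
    refine h2.symm.trans ?_
    exact congrArg (fun x => e.inv.app (op T) (ULift.up x)) (Category.comp_id g)
  have hrep : ∀ (T : Y.Etale) (t : EtCoh.sect E T), ∃ g : T ⟶ U, E.obj.map g.op e0 = t := by
    intro T t
    let g' : ULift (T ⟶ U) := e.hom.app (op T) t
    refine ⟨g'.down, ?_⟩
    rw [hmap]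
    change e.inv.app (op T) (e.hom.app (op T) t) = t
    exact ConcreteCategory.congr_hom (e.hom_inv_id_app (op T)) t
  have hinj : ∀ (T : Y.Etale) (g g' : T ⟶ U), E.obj.map g.op e0 = E.obj.map g'.op e0 → g = g' := by
    intro T g g' h
    rw [hmap, hmap] at h
    have h2 := congrArg (fun x => e.hom.app (op T) x) h
    have h3 : ∀ x : ULift (T ⟶ U), e.hom.app (op T) (e.inv.app (op T) x) = x := fun x =>
      ConcreteCategory.congr_hom (e.inv_hom_id_app (op T)) x
    have h4 : (⟨g⟩ : ULift (T ⟶ U)) = ⟨g'⟩ := (h3 ⟨g⟩).symm.trans (h2.trans (h3 ⟨g'⟩))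
    exact congrArg ULift.down h4
  let zT : ∀ T : Y.Etale, EtCoh.sect E T → LocallyConstant T.left (ULift.{u + 1} (ZMod n)) :=
    fun T t => (pullback.snd p φ).hom.app (op T) t
  have hzT : ∀ (T : Y.Etale) (g : T ⟶ U) (x : T.left),
      zT T (E.obj.map g.op e0) x = zT U e0 (g.left x) := by
    intro T g x
    have h := ConcreteCategory.congr_hom ((pullback.snd p φ).hom.naturality g.op) e0
    exact congrArg (fun y : LocallyConstant T.left (ULift.{u + 1} (ZMod n)) => y x) h
  let N : U.left.Opens := ⟨zT U e0 ⁻¹' {⟨1⟩}, (zT U e0).isLocallyConstant.isOpen_fiber _⟩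
  have hNc : IsClosed (N : Set U.left) := (zT U e0).isLocallyConstant.isClosed_fiber _
  let P : Y.Etale := EqLocus.openSub U N
  have : IsClosedImmersion N.ι := by
    refine IsClosedImmersion.of_isPreimmersion _ ?_
    rw [Scheme.Opens.range_ι]
    exact hNc
  have hPfin : IsFinite P.hom := by
    have : IsFinite (N.ι ≫ U.hom) := inferInstance
    exact this
  have hlift : ∀ (T : Y.Etale) (t : EtCoh.sect K T), p.hom.app (op T) t = Q.obj.map (toTop T).op q →
      ∃ (h : T ⟶ U), Set.range h.left ⊆ N ∧ (pullback.fst p φ).hom.app (op T) (E.obj.map h.op e0) = t := by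
    intro T t ht
    obtain ⟨e1, he1, he2⟩ := exists_pullback_sect p φ t (constSec (ULift.{u + 1} (ZMod n)) T ⟨1⟩)
      (by rw [ht, hφT])
    obtain ⟨h, hh⟩ := hrep T e1
    refine ⟨h, ?_, by rw [hh, he1]⟩
    rintro _ ⟨v, rfl⟩
    change zT U e0 (h.left v) = ⟨1⟩
    rw [← hzT, hh]
    exact congrArg (fun y : LocallyConstant T.left (ULift.{u + 1} (ZMod n)) => y v) he2
  have hcP : ∀ (T : Y.Etale) (g : T ⟶ P),
      (pullback.snd p φ).hom.app (op T) (E.obj.map (g ≫ EqLocus.openι U N).op e0) =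
        constSec (ULift.{u + 1} (ZMod n)) T ⟨1⟩ := by
    intro T g
    refine LocallyConstant.ext fun x => ?_
    refine (hzT T (g ≫ EqLocus.openι U N) x).trans ?_
    have h5 : (g ≫ EqLocus.openι U N).left x = N.ι (g.left x) := rfl
    rw [h5]
    exact (g.left x).2
  have hmapc : ∀ (T : Y.Etale) (g : T ⟶ P),
      K.obj.map g.op ((pullback.fst p φ).hom.app (op P) (E.obj.map (EqLocus.openι U N).op e0)) =
        (pullback.fst p φ).hom.app (op T) (E.obj.map (g ≫ EqLocus.openι U N).op e0) := by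
    intro T g
    rw [EqLocus.map_comp]
    exact (ConcreteCategory.congr_hom ((pullback.fst p φ).hom.naturality g.op)
      (E.obj.map (EqLocus.openι U N).op e0)).symm
  refine ⟨P, (pullback.fst p φ).hom.app (op P) (E.obj.map (EqLocus.openι U N).op e0), hPfin, ?_, ?_, ?_⟩
  · refine ⟨fun y => ?_⟩
    obtain ⟨T, g, v, -, hv, t, ht⟩ := RpushTors.exists_affine_lift p (EtCoh.top Y) q y
    have hg : g = toTop T := (Groth.Agent.Etbase.EtColim.topIsTerminal Y).hom_ext _ _
    obtain ⟨h, hh, -⟩ := hlift T t (by rw [ht, hg])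
    refine ⟨(⟨h.left v, hh ⟨v, rfl⟩⟩ : N), ?_⟩
    have h2 : U.hom (h.left v) = T.hom v := (Groth.Agent.EtpbcA.CdDiesEt.hom_left h v).symm
    have h3 : T.hom v = y := by
      rw [Groth.Agent.EtpbcA.CdDiesEt.hom_left g v, hv]
      rfl
    exact h2.trans h3
  · have hk : (pullback.fst p φ ≫ p).hom.app (op P) (E.obj.map (EqLocus.openι U N).op e0) =
        (pullback.snd p φ ≫ φ).hom.app (op P) (E.obj.map (EqLocus.openι U N).op e0) := by
      rw [pullback.condition]
    have hc := hcP P (𝟙 P)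
    rw [Category.id_comp] at hc
    refine hk.trans ?_
    rw [← hφT P, ← hc]
    rfl
  · intro T t ht
    obtain ⟨h, hh, hht⟩ := hlift T t ht
    refine ⟨EqLocus.liftOpen N h hh, ?_, ?_⟩
    · change K.obj.map (EqLocus.liftOpen N h hh).op _ = t
      rw [hmapc, EqLocus.liftOpen_ι, hht]
    · intro g hg
      have hg1 : (pullback.fst p φ).hom.app (op T) (E.obj.map (g ≫ EqLocus.openι U N).op e0) = t :=
        (hmapc T g).symm.trans hg
      have hg2 : g ≫ EqLocus.openι U N = h := by
        apply hinj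
        apply pullback_sect_ext
        · rw [hg1, hht]
        · have h6 := hcP T (EqLocus.liftOpen N h hh)
          rw [EqLocus.liftOpen_ι] at h6
          rw [hcP, h6]
      apply EqLocus.hom_ext
      have h7 : g.left ≫ N.ι = (EqLocus.liftOpen N h hh).left ≫ N.ι := by
        have h8 := congrArg (fun x => x.left) (hg2.trans (EqLocus.liftOpen_ι N h hh).symm)
        exact h8
      exact (cancel_mono N.ι).1 h7

end K345.TorsRep
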